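import Groth.Prelude.Def_FlatCA
import Groth.Agent.S2768
import Groth.Agent.S5766
import Groth.Agent.S5792
import Groth.Agent.FibAssLib.Fibre
import Mathlib

/-!
# Fibres of smooth algebras and supports of fibre modules along finite maps
-/

set_option autoImplicit false
set_option linter.style.haveILetI false
set_option backward.isDefEq.respectTransparency false
set_option backward.isDefEq.respectTransparency.types false
set_option maxHeartbeats 1000000

universe u

open CategoryTheory CategoryTheory.Limits AlgebraicGeometry TensorProduct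

noncomputable section

namespace Groth.Agent.DevissLib

theorem smooth_of_smoothRelDim {n : ℕ} {R D : Type u} [CommRing R] [CommRing D] [Algebra R D]
    (h : FlatCA.SmoothRelDim n R D) : Algebra.Smooth R D := by
  haveI := h
  haveI : Smooth (Spec.map (CommRingCat.ofHom (algebraMap R D))) := SmoothOfRelativeDimension.smooth n _
  have hh := (HasRingHomProperty.Spec_iff (P := @Smooth) (φ := CommRingCat.ofHom (algebraMap R D))).1 inferInstance
  exact RingHom.smooth_algebraMap.1 hh

/-- The fibres of a smooth algebra of relative dimension `n` have dimension at most `n`. -/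
theorem ringKrullDim_fiber_le {n : ℕ} {R D : Type u} [CommRing R] [CommRing D] [Algebra R D]
    (h : FlatCA.SmoothRelDim n R D) (p : Ideal R) [p.IsPrime] : ringKrullDim (p.Fiber D) ≤ n := by
  haveI := h
  haveI := smoothOfRelativeDimension_isStableUnderBaseChange (n := n)
  have sq := isPullback_SpecMap_of_isPushout _ _ _ _
    (CommRingCat.isPushout_tensorProduct R p.ResidueField D)
  haveI : SmoothOfRelativeDimension n
      (Spec.map (CommRingCat.ofHom (Algebra.TensorProduct.includeLeftRingHom :
        p.ResidueField →+* p.Fiber D))) :=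
    MorphismProperty.of_isPullback sq.flip h
  rw [← PrimeSpectrum.topologicalKrullDim_eq_ringKrullDim]
  rw [S5792.result (PrimeSpectrum (p.Fiber D))]
  exact iSup_le fun x => (S2768.localDim_eq n
    (Spec.map (CommRingCat.ofHom (Algebra.TensorProduct.includeLeftRingHom :
      p.ResidueField →+* p.Fiber D))) x).le

section Transfer

attribute [local instance] Algebra.TensorProduct.rightAlgebra

variable {R : Type u} [CommRing R] (p : Ideal R) [p.IsPrime] (S C : Type u) [CommRing S] [CommRing C] [Algebra R S]
  [Algebra R C] [Algebra S C] [IsScalarTower R S C]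
  (G : Type u) [AddCommGroup G] [Module C G] [Module S G] [IsScalarTower S C G] [Module R G] [IsScalarTower R S G]
  [IsScalarTower R C G]

/-- The map of fibre rings. -/
def fibMap : p.Fiber S →ₐ[R] p.Fiber C :=
  Algebra.TensorProduct.map (AlgHom.id R p.ResidueField) (IsScalarTower.toAlgHom R S C)

theorem exists_fiberMod_equiv : ∃ e : FlatCA.fiberMod p S G ≃+ FlatCA.fiberMod p C G,
    ∀ (x : p.Fiber S) (m : FlatCA.fiberMod p S G), e (x • m) = fibMap p S C x • e m := by
  let eS : (p.Fiber S) ⊗[S] G ≃ₗ[p.ResidueField] p.ResidueField ⊗[R] G :=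
    Algebra.IsPushout.cancelBaseChange R p.ResidueField S (p.Fiber S) G
  let eC : (p.Fiber C) ⊗[C] G ≃ₗ[p.ResidueField] p.ResidueField ⊗[R] G :=
    Algebra.IsPushout.cancelBaseChange R p.ResidueField C (p.Fiber C) G
  let L := eS.trans eC.symm
  have key : ∀ (y : p.Fiber S) (g : G), L (y ⊗ₜ[S] g) = fibMap p S C y ⊗ₜ[C] g := by
    intro y g
    induction y using TensorProduct.induction_on with
    | zero => rw [TensorProduct.zero_tmul, map_zero, map_zero, TensorProduct.zero_tmul]
    | add a b ha hb => rw [TensorProduct.add_tmul, map_add, ha, hb, map_add, TensorProduct.add_tmul]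
    | tmul a s =>
      have h₁ : (a ⊗ₜ[R] s : p.Fiber S) = s • (a ⊗ₜ[R] (1 : S)) := by
        rw [Algebra.smul_def]
        show _ = ((1 : p.ResidueField) ⊗ₜ[R] s) * _
        rw [Algebra.TensorProduct.tmul_mul_tmul, one_mul, mul_one]
      have h₂ : (fibMap p S C (a ⊗ₜ[R] s) : p.Fiber C) = algebraMap S C s • (a ⊗ₜ[R] (1 : C)) := by
        rw [Algebra.smul_def]
        show a ⊗ₜ[R] algebraMap S C s = ((1 : p.ResidueField) ⊗ₜ[R] algebraMap S C s) * _
        rw [Algebra.TensorProduct.tmul_mul_tmul, one_mul, mul_one]
      rw [h₁, TensorProduct.smul_tmul, ← h₁, h₂, TensorProduct.smul_tmul, algebraMap_smul]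
      show eC.symm (eS ((a ⊗ₜ[R] (1 : S)) ⊗ₜ[S] (s • g))) = _
      rw [show eS ((a ⊗ₜ[R] (1 : S)) ⊗ₜ[S] (s • g)) = a ⊗ₜ[R] (s • g) from
        eS.symm.injective (by rw [LinearEquiv.symm_apply_apply]; exact
          (Algebra.IsPushout.cancelBaseChangeAux_symm_tmul R p.ResidueField S (p.Fiber S) G a (s • g)).symm)]
      exact Algebra.IsPushout.cancelBaseChangeAux_symm_tmul R p.ResidueField C (p.Fiber C) G a (s • g)
  refine ⟨L.toAddEquiv, fun x m => ?_⟩
  change L (x • (show (p.Fiber S) ⊗[S] G from m)) = fibMap p S C x • L m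
  induction (show (p.Fiber S) ⊗[S] G from m) using TensorProduct.induction_on with
  | zero => rw [smul_zero, map_zero, smul_zero]
  | tmul y g =>
    rw [TensorProduct.smul_tmul', key, key, smul_eq_mul, map_mul, TensorProduct.smul_tmul', smul_eq_mul]
  | add a b ha hb => rw [smul_add, map_add, ha, hb, map_add, smul_add]

/-- Support dimensions of fibre modules do not change along algebra maps when the module is finite. -/
theorem supportDim_fiberMod_eq [Algebra.FiniteType R S] [Module.Finite S G] :
    Module.supportDim (p.Fiber S) (FlatCA.fiberMod p S G) =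
      Module.supportDim (p.Fiber C) (FlatCA.fiberMod p C G) := by
  obtain ⟨e, he⟩ := exists_fiberMod_equiv p S C G
  letI : Algebra (p.Fiber S) (p.Fiber C) := (fibMap p S C).toRingHom.toAlgebra
  letI : Module (p.Fiber S) (FlatCA.fiberMod p C G) := Module.compHom _ (fibMap p S C).toRingHom
  haveI : IsScalarTower (p.Fiber S) (p.Fiber C) (FlatCA.fiberMod p C G) :=
    IsScalarTower.of_algebraMap_smul fun _ _ => rfl
  let el : FlatCA.fiberMod p S G ≃ₗ[p.Fiber S] FlatCA.fiberMod p C G := e.toLinearEquiv he
  haveI : Module.Finite (p.Fiber S) (FlatCA.fiberMod p C G) := Module.Finite.equiv el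
  haveI : IsNoetherianRing (p.Fiber S) := Algebra.EssFiniteType.isNoetherianRing p.ResidueField (p.Fiber S)
  rw [Module.supportDim_eq_of_equiv el]
  exact S5766.result (p.Fiber S) (p.Fiber C) (FlatCA.fiberMod p C G)

end Transfer

end Groth.Agent.DevissLib
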