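import Groth.Agent.DevissLib.Complete

/-!
# Spreading out the steps of a complete dévissage from a prime of the base
-/

set_option autoImplicit false
set_option linter.style.haveILetI false
set_option backward.isDefEq.respectTransparency false
set_option backward.isDefEq.respectTransparency.types false
set_option maxHeartbeats 1000000

universe u

open TensorProduct

noncomputable section

namespace Groth.Agent.DevissLib

variable {R B : Type u} [CommRing R] [CommRing B] [Algebra R B] [Algebra.Smooth R B]

/-- `α` stays injective after tensoring with the modules on which `f` is invertible. -/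
def GoodAt {F M : Type u} [AddCommGroup F] [Module R F] [AddCommGroup M] [Module R M] (α : F →ₗ[R] M) (f : R) : Prop :=
  ∀ (Q : Type u) [AddCommGroup Q] [Module R Q], IsUnit (algebraMap R (Module.End R Q) f) →
    Function.Injective (α.rTensor Q)

theorem GoodAt.mul {F M : Type u} [AddCommGroup F] [Module R F] [AddCommGroup M] [Module R M] {α : F →ₗ[R] M} {f : R}
    (h : GoodAt α f) (g : R) : GoodAt α (f * g) := fun Q _ _ hu =>
  h Q ((Commute.isUnit_mul_iff ((Commute.all f g).map (algebraMap R (Module.End R Q)))).1 (map_mul (algebraMap R (Module.End R Q)) f g ▸ hu)).1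

theorem fibre_ne_bot (h : FlatCA.GeomIrredFibres R B) (p : Ideal R) [p.IsPrime] : IsDomain (p.Fiber B) :=
  PureLib.isDomain_tensor_field (geomIntegralFibres_of_smooth h) p.ResidueField

/-- The extension of a prime lies over it. -/
theorem liesOver_map (h : FlatCA.GeomIrredFibres R B) (p : Ideal R) [p.IsPrime] : (p.map (algebraMap R B)).LiesOver p := by
  haveI := fibre_ne_bot h p
  obtain ⟨P, hP⟩ := Ideal.exists_maximal (p.Fiber B)
  haveI := hP.isPrime
  haveI := FibAssLib.comap_liesOver p P
  exact ⟨le_antisymm Ideal.le_comap_map ((Ideal.comap_mono (Ideal.map_le_iff_le_comap.2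
    (Ideal.LiesOver.over (P := P.comap (CAlgFib.ι (S := B) p)) (p := p)).le)).trans
    (Ideal.LiesOver.over (P := P.comap (CAlgFib.ι (S := B) p)) (p := p)).ge)⟩

/-- An element which is nonzero in the fibres over `D(f)` is regular on the tensor products. -/
theorem eq_zero_of_smul (h : FlatCA.GeomIrredFibres R B) {t : B} {f : R}
    (ht : ∀ (p : Ideal R) [p.IsPrime], f ∉ p → CAlgFib.ι (S := B) p t ≠ 0) (r : ℕ)
    {Q : Type u} [AddCommGroup Q] [Module R Q] (hQ : IsUnit (algebraMap R (Module.End R Q) f))
    {z : (Fin r → B) ⊗[R] Q} (hz : t • z = 0) : z = 0 := by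
  haveI : Module.Flat R (Fin r → B) := by
    classical
    haveI := projective_of_smooth h
    haveI : Module.Projective R (Fin r →₀ B) := Module.Projective.of_equiv (finsuppLequivDFinsupp (ι := Fin r) R).symm
    haveI : Module.Projective R (Fin r → B) := Module.Projective.of_equiv (Finsupp.linearEquivFunOnFinite R B (Fin r))
    infer_instance
  by_contra hne
  let A : Ideal B := LinearMap.ker (LinearMap.toSpanSingleton B _ z)
  have hd : Disjoint (A : Set B) (Submonoid.powers (algebraMap R B f)) := by
    rw [Set.disjoint_right]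
    rintro _ ⟨k, rfl⟩ hk
    apply hne
    have hk' : (f ^ k) • z = 0 := by
      rw [← algebraMap_smul B (f ^ k) z, map_pow]
      exact hk
    have hu : IsUnit (algebraMap R (Module.End R Q) (f ^ k)) := by rw [map_pow]; exact hQ.pow k
    let e : Q ≃ₗ[R] Q := LinearEquiv.ofBijective _ ((Module.End.isUnit_iff _).1 hu)
    refine (LinearEquiv.lTensor (Fin r → B) e).injective ?_
    rw [map_zero, ← hk']
    clear hk hk' hne hz
    induction z using TensorProduct.induction_on with
    | zero => rw [map_zero, smul_zero]
    | tmul a b => rw [LinearEquiv.lTensor_tmul, ← TensorProduct.tmul_smul]; rfl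
    | add x y hx hy => rw [map_add, hx, hy, smul_add]
  obtain ⟨q, hq, hle, hdisj⟩ := Ideal.exists_le_prime_disjoint A (Submonoid.powers (algebraMap R B f)) hd
  haveI := hq
  let p := q.comap (algebraMap R B)
  haveI : q.LiesOver p := ⟨rfl⟩
  have hfp : f ∉ p := fun hf => Set.disjoint_left.1 hdisj hf (Submonoid.mem_powers _)
  haveI := fibre_ne_bot h p
  letI := (Algebra.TensorProduct.includeRight (R := R) (A := p.ResidueField) (B := B)).toRingHom.toAlgebra
  haveI : Module.Free (p.Fiber B) (FlatCA.fiberMod p B (Fin r → B)) :=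
    inferInstanceAs (Module.Free (p.Fiber B) ((p.Fiber B) ⊗[B] (Fin r → B)))
  obtain ⟨d, hd', hdz⟩ := FibAssLib.exists_smul_eq_zero_of_assBelow p q (FibAssLib.flatAt_of_flat q) (z := z)
    fun P hP => by
      refine ⟨t, fun hmem => ht p hfp ?_, hz⟩
      obtain ⟨hprime, y, hy⟩ := hP.1
      have hy0 : y ≠ 0 := fun h0 => hprime.ne_top (by
        rw [hy, h0, Ideal.eq_top_iff_one]
        exact Ideal.le_radical (by simp))
      have hc : (⊥ : Submodule (p.Fiber B) (FlatCA.fiberMod p B (Fin r → B))).colon {y} = ⊥ := by
        ext s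
        simp [Submodule.mem_colon_singleton, hy0]
      rw [hy, hc, Ideal.IsPrime.radical Ideal.isPrime_bot] at hmem
      exact hmem
  exact hd' (hle hdz)

variable {M : Type u} [AddCommGroup M] [Module B M] [Module R M] [IsScalarTower R B M] [Module.FinitePresentation B M]

/-- A map from a free module bijective at the generic point of the fibre at `rr` is good near `rr`. -/
theorem exists_goodAt (h : FlatCA.GeomIrredFibres R B) (rr : Ideal R) [rr.IsPrime] [(rr.map (algebraMap R B)).IsPrime]
    {r : ℕ} (α : (Fin r → B) →ₗ[B] M)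
    (hα : Function.Bijective (α.baseChange (rr.map (algebraMap R B)).ResidueField))
    (hflat : FlatCA.FlatAt R (rr.map (algebraMap R B)) M) :
    ∃ g, g ∉ rr ∧ GoodAt (α.restrictScalars R) g := by
  classical
  haveI hBflat : Module.Flat R B := by
    haveI := projective_of_smooth h
    infer_instance
  let P := rr.map (algebraMap R B)
  haveI : P.LiesOver rr := liesOver_map h rr
  let BP := Localization.AtPrime P
  haveI hlocP : ∀ (X : Type u) [AddCommGroup X] [Module B X],
      IsLocalizedModule P.primeCompl (TensorProduct.mk B BP X 1) := fun X _ _ =>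
    (isLocalizedModule_iff_isBaseChange P.primeCompl BP _).2 (TensorProduct.isBaseChange B X BP)
  haveI : Module.Flat R (LocalizedModule P.primeCompl M) := hflat
  haveI : Module.Flat R (BP ⊗[B] M) :=
    FlatLocus.flat_localized_of_le P.primeCompl P.primeCompl le_rfl (LocalizedModule.mkLinearMap P.primeCompl M)
      (TensorProduct.mk B BP M 1)
  let αP := α.baseChange BP
  have hsurj : Function.Surjective αP := by
    have hns : (⟨P, inferInstance⟩ : PrimeSpectrum B) ∉ Module.support B (M ⧸ LinearMap.range α) := fun hs => by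
      haveI : Nontrivial (P.ResidueField ⊗[B] (M ⧸ LinearMap.range α)) :=
        (Module.mem_support_iff_nontrivial_residueField_tensorProduct ⟨P, inferInstance⟩).1 hs
      haveI : Subsingleton (P.ResidueField ⊗[B] (M ⧸ LinearMap.range α)) := subsingleton_of_forall_eq 0 fun x => by
        obtain ⟨y, rfl⟩ := LinearMap.lTensor_surjective P.ResidueField (LinearMap.range α).mkQ_surjective x
        obtain ⟨z, rfl⟩ := hα.2 y
        rw [LinearMap.baseChange_eq_ltensor, ← LinearMap.lTensor_comp_apply, LinearMap.range_mkQ_comp,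
          LinearMap.lTensor_zero, LinearMap.zero_apply]
      exact false_of_nontrivial_of_subsingleton (P.ResidueField ⊗[B] (M ⧸ LinearMap.range α))
    rw [Module.mem_support_iff_of_finite, SetLike.not_le_iff_exists] at hns
    obtain ⟨c, hc, hcP⟩ := hns
    intro y
    obtain ⟨⟨m, s⟩, hm⟩ := IsLocalizedModule.surj P.primeCompl (TensorProduct.mk B BP M 1) y
    obtain ⟨v, hv⟩ : c • m ∈ LinearMap.range α := by
      rw [← Submodule.Quotient.mk_eq_zero, Submodule.Quotient.mk_smul]
      exact Module.mem_annihilator.1 hc _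
    have hu : IsUnit (algebraMap B BP (c * s)) :=
      IsLocalization.map_units BP (⟨c * s, P.primeCompl.mul_mem hcP s.2⟩ : P.primeCompl)
    refine ⟨hu.unit⁻¹ • ((1 : BP) ⊗ₜ[B] v), ?_⟩
    rw [Units.smul_def, map_smul, ← Units.smul_def, inv_smul_eq_iff, LinearMap.baseChange_tmul, hv,
      Units.smul_def, IsUnit.unit_spec, algebraMap_smul, mul_smul, TensorProduct.tmul_smul]
    exact congrArg (c • ·) hm.symm
  let J := rr.map (algebraMap R BP)
  have hJP : J = P.map (algebraMap B BP) := by rw [Ideal.map_map, ← IsScalarTower.algebraMap_eq]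
  have hJ : J ≤ IsLocalRing.maximalIdeal BP := by
    rw [hJP]
    exact (Localization.AtPrime.map_eq_maximalIdeal (I := P)).le
  have hinjP : Function.Injective αP := by
    rw [← LinearMap.ker_eq_bot]
    refine Submodule.eq_bot_of_le_smul_of_le_jacobson_bot J _ (Module.FinitePresentation.fg_ker αP hsurj)
      (fun x hx => ?_) (hJ.trans (IsLocalRing.maximalIdeal_le_jacobson _))
    have hxJ : x ∈ J • (⊤ : Submodule BP (BP ⊗[B] (Fin r → B))) := by
      obtain ⟨⟨v, s⟩, hv⟩ := IsLocalizedModule.surj P.primeCompl (TensorProduct.mk B BP (Fin r → B) 1) x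
      have h0 : (1 : BP) ⊗ₜ[B] α v = 0 := by
        rw [← LinearMap.baseChange_tmul]
        show αP (TensorProduct.mk B BP (Fin r → B) 1 v) = 0
        rw [← hv, Submonoid.smul_def, ← algebraMap_smul BP (s : B) x, map_smul, LinearMap.mem_ker.1 hx, smul_zero]
      obtain ⟨c, hc⟩ := (IsLocalizedModule.eq_zero_iff P.primeCompl (TensorProduct.mk B BP M 1)).1 h0
      have hc0 : algebraMap B P.ResidueField c ≠ 0 := fun e => c.2 (Ideal.algebraMap_residueField_eq_zero.1 e)
      have h1 : ((1 : P.ResidueField) ⊗ₜ[B] v : P.ResidueField ⊗[B] (Fin r → B)) = 0 := by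
        apply hα.1
        rw [map_zero, LinearMap.baseChange_tmul]
        refine (smul_eq_zero_iff_right hc0).1 ?_
        rw [algebraMap_smul, ← TensorProduct.tmul_smul, ← Submonoid.smul_def, hc, TensorProduct.tmul_zero]
      have h2 : ∀ i, v i ∈ P := fun i => by
        have := congrArg (fun t => TensorProduct.piScalarRight B B P.ResidueField (Fin r) t i) h1
        simp only [TensorProduct.piScalarRight_apply, TensorProduct.piScalarRightHom_tmul, map_zero, Pi.zero_apply,
          Algebra.smul_def, mul_one] at this
        exact Ideal.algebraMap_residueField_eq_zero.1 this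
      have h3 : (TensorProduct.mk B BP (Fin r → B) 1 v) ∈ J • (⊤ : Submodule BP (BP ⊗[B] (Fin r → B))) := by
        rw [pi_eq_sum_univ' v, map_sum]
        refine sum_mem fun i _ => ?_
        rw [map_smul, ← algebraMap_smul BP (v i)]
        refine Submodule.smul_mem_smul ?_ Submodule.mem_top
        rw [hJP]
        exact Ideal.mem_map_of_mem _ (h2 i)
      rw [← hv, Submonoid.smul_def, ← algebraMap_smul BP (s : B) x] at h3
      exact (Submodule.smul_mem_iff_of_isUnit _ (IsLocalization.map_units BP s)).1 h3
    exact mem_smul_ker rr αP hsurj (LinearMap.mem_ker.1 hx) hxJ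
  -- a one-sided inverse up to an element outside `P`
  let e := LinearEquiv.ofBijective αP ⟨hinjP, hsurj⟩
  obtain ⟨β, s₀, hβ⟩ := Module.FinitePresentation.exists_lift_of_isLocalizedModule P.primeCompl
    (TensorProduct.mk B BP (Fin r → B) 1) ((e.symm.toLinearMap.restrictScalars B) ∘ₗ TensorProduct.mk B BP M 1)
  obtain ⟨s₁, hs₁⟩ := Module.Finite.exists_smul_of_comp_eq_of_isLocalizedModule P.primeCompl
    (TensorProduct.mk B BP (Fin r → B) 1) (β ∘ₗ α) ((s₀ : B) • LinearMap.id) (LinearMap.ext fun v => by
      have h1 := LinearMap.congr_fun hβ (α v)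
      simp only [LinearMap.comp_apply, LinearMap.smul_apply, LinearMap.restrictScalars_apply, LinearEquiv.coe_coe] at h1
      rw [LinearMap.comp_apply, LinearMap.comp_apply, h1, LinearMap.comp_apply, LinearMap.smul_apply, LinearMap.id_apply,
        map_smul, Submonoid.smul_def]
      congr 1
      rw [show TensorProduct.mk B BP M 1 (α v) = e (TensorProduct.mk B BP (Fin r → B) 1 v) from
        (α.baseChange_tmul (1 : BP) v).symm, LinearEquiv.symm_apply_apply])
  -- the base open
  let t : B := s₁ * s₀
  have htP : t ∉ P := fun hmem => (P.primeCompl.mul_mem s₁.2 s₀.2) hmem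
  haveI : Algebra.FinitePresentation R B := inferInstance
  obtain ⟨_, ⟨g, rfl⟩, hrg, hsub⟩ := PrimeSpectrum.isTopologicalBasis_basic_opens.exists_subset_of_mem_open
    (a := (⟨rr, inferInstance⟩ : PrimeSpectrum R))
    (show (⟨rr, inferInstance⟩ : PrimeSpectrum R) ∈ PrimeSpectrum.comap (algebraMap R B) ''
      (PrimeSpectrum.basicOpen t : Set (PrimeSpectrum B)) from
      ⟨⟨P, inferInstance⟩, htP, PrimeSpectrum.ext (P.over_def rr).symm⟩)
    ((PrimeSpectrum.isOpenMap_comap_of_hasGoingDown_of_finitePresentation (R := R) (S := B)) _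
      (PrimeSpectrum.basicOpen t).2)
  refine ⟨g, hrg, fun Q _ _ hQ => (injective_iff_map_eq_zero _).2 fun z hz => ?_⟩
  refine eq_zero_of_smul h (t := t) (f := g) (fun p _ hgp h0 => ?_) r hQ ?_
  · obtain ⟨q, hq, hqp⟩ := hsub (show (⟨p, inferInstance⟩ : PrimeSpectrum R) ∈ PrimeSpectrum.basicOpen g from hgp)
    haveI : q.asIdeal.LiesOver p := ⟨(congrArg PrimeSpectrum.asIdeal hqp).symm⟩
    refine hq ((FibAssLib.fiberIdeal_spec p q.asIdeal).2.le ?_)
    rw [Ideal.mem_comap, h0]
    exact zero_mem _
  · have hcomp : ∀ w : (Fin r → B) ⊗[R] Q,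
        (((s₁ : B) • β).restrictScalars R).rTensor Q ((α.restrictScalars R).rTensor Q w) = t • w := by
      intro w
      induction w using TensorProduct.induction_on with
      | zero => simp
      | tmul v x =>
        rw [LinearMap.rTensor_tmul, LinearMap.rTensor_tmul, TensorProduct.smul_tmul']
        congr 1
        have h1 : (s₁ : B) • β (α v) = t • v := by
          have h2 := LinearMap.congr_fun hs₁ v
          simpa [Submonoid.smul_def, t, mul_smul] using h2
        exact h1
      | add x y hx hy => simp only [map_add, hx, hy, smul_add]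
    rw [← hcomp, hz, map_zero]

end Groth.Agent.DevissLib
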