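import Groth.Agent.DevissLib.Fibre

/-!
# Bases at the generic point of the fibre of the smooth algebra
-/

set_option autoImplicit false
set_option linter.style.haveILetI false
set_option backward.isDefEq.respectTransparency false
set_option backward.isDefEq.respectTransparency.types false
set_option maxHeartbeats 1000000

universe u

open TensorProduct

noncomputable section

namespace Groth.Agent.DevissLib

attribute [local instance] Algebra.TensorProduct.rightAlgebra

variable {R : Type u} [CommRing R] (p : Ideal R) [p.IsPrime] {D : Type u} [CommRing D] [Algebra R D]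
  (G : Type u) [AddCommGroup G] [Module D G] [Module R G] [IsScalarTower R D G]

/-- When the extension of `p` is prime and lies over `p` it is the zero ideal of the fibre ring. -/
theorem fibre_domain [(p.map (algebraMap R D)).IsPrime] [(p.map (algebraMap R D)).LiesOver p] :
    IsDomain (p.Fiber D) ∧ ∀ c : D, CAlgFib.ι (S := D) p c = 0 → c ∈ p.map (algebraMap R D) := by
  obtain ⟨hprime, hcomap⟩ := FibAssLib.fiberIdeal_spec p (p.map (algebraMap R D))
  have h0 : FlatCA.fiberIdeal p (p.map (algebraMap R D)) = ⊥ := by
    refine le_bot_iff.1 (Ideal.map_le_iff_le_comap.2 (Ideal.map_le_iff_le_comap.2 fun a ha => ?_))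
    exact CAlgFib.ι_eq_zero p ha
  rw [h0] at hprime hcomap
  refine ⟨?_, fun c hc => hcomap.le (show CAlgFib.ι (S := D) p c ∈ (⊥ : Ideal (p.Fiber D)) from hc)⟩
  haveI := hprime
  exact (RingEquiv.quotientBot (p.Fiber D)).symm.toMulEquiv.isDomain

/-- A finite module vanishing at the generic point of a fibre domain has smaller support. -/
theorem supportDim_lt {n : ℕ} [Algebra.FiniteType R D] (hD : ringKrullDim (p.Fiber D) ≤ n)
    [(p.map (algebraMap R D)).IsPrime] [(p.map (algebraMap R D)).LiesOver p]
    [Module.Finite D G] (h : Subsingleton ((p.map (algebraMap R D)).ResidueField ⊗[D] G)) :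
    Module.supportDim (p.Fiber D) (FlatCA.fiberMod p D G) < (n : WithBot ℕ∞) := by
  obtain ⟨hdom, hker⟩ := fibre_domain p (D := D)
  haveI := hdom
  haveI := FibAssLib.finite_fiberMod p (S := D) G
  have hns : (⟨_, inferInstance⟩ : PrimeSpectrum D) ∉ Module.support D G := fun hs => by
    haveI : Nontrivial ((p.map (algebraMap R D)).ResidueField ⊗[D] G) :=
      (Module.mem_support_iff_nontrivial_residueField_tensorProduct ⟨p.map (algebraMap R D), inferInstance⟩).1 hs
    exact false_of_nontrivial_of_subsingleton ((p.map (algebraMap R D)).ResidueField ⊗[D] G)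
  rw [Module.mem_support_iff_of_finite, SetLike.not_le_iff_exists] at hns
  obtain ⟨c, hc, hcP⟩ := hns
  let c' := CAlgFib.ι (S := D) p c
  have hc0 : c' ≠ 0 := fun h0 => hcP (hker c h0)
  have hann : c' ∈ Module.annihilator (p.Fiber D) (FlatCA.fiberMod p D G) := by
    rw [Module.mem_annihilator]
    intro m
    refine (CAlgFib.smul_eq (S := D) p G c m).symm.trans ?_
    change c • (show (p.Fiber D) ⊗[D] G from m) = 0
    induction (show (p.Fiber D) ⊗[D] G from m) using TensorProduct.induction_on with
    | zero => rw [smul_zero]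
    | tmul x g => rw [← TensorProduct.tmul_smul, Module.mem_annihilator.1 hc g, TensorProduct.tmul_zero]
    | add a b ha hb => rw [smul_add, ha, hb, add_zero]
  rw [Module.supportDim_eq_ringKrullDim_quotient_annihilator]
  have h1 : ringKrullDim (p.Fiber D ⧸ Module.annihilator (p.Fiber D) (FlatCA.fiberMod p D G)) ≤
      ringKrullDim (p.Fiber D ⧸ Ideal.span {c'}) :=
    ringKrullDim_le_of_surjective (Ideal.Quotient.factor ((Ideal.span_singleton_le_iff_mem _).2 hann))
      (Ideal.Quotient.factor_surjective _)
  refine h1.trans_lt ?_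
  have h2 := (ringKrullDim_quotient_succ_le_of_nonZeroDivisor (mem_nonZeroDivisors_of_ne_zero hc0)).trans hD
  revert h2
  generalize ringKrullDim (p.Fiber D ⧸ Ideal.span {c'}) = d
  intro h2
  induction d using WithBot.recBotCoe with
  | bot => exact WithBot.bot_lt_coe _
  | coe a =>
    rw [← WithBot.coe_one, ← WithBot.coe_add] at h2
    have h3 : a + 1 ≤ (n : ℕ∞) := WithBot.coe_le_coe.1 h2
    refine WithBot.coe_lt_coe.2 ?_
    induction a using ENat.recTopCoe with
    | top => exact absurd h3 (by simp)
    | coe b =>
      have h4 : b + 1 ≤ n := by exact_mod_cast h3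
      show ((b : ℕ) : ℕ∞) < (n : ℕ∞)
      exact_mod_cast h4

/-- A finite module has a map from a free one that is bijective at a given point. -/
theorem exists_residue_basis (P : Ideal D) [P.IsPrime] [Module.Finite D G] :
    ∃ (r : ℕ) (α : (Fin r → D) →ₗ[D] G), Function.Bijective (α.baseChange P.ResidueField) ∧
      (r = 0 → Subsingleton (P.ResidueField ⊗[D] G)) := by
  classical
  let K := P.ResidueField
  let V := K ⊗[D] G
  have hspan : Submodule.span K (Set.range fun g : G => ((1 : K) ⊗ₜ[D] g : V)) = ⊤ := by
    refine eq_top_iff.2 fun v _ => ?_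
    induction v using TensorProduct.induction_on with
    | zero => exact zero_mem _
    | tmul a g =>
      rw [show (a ⊗ₜ[D] g : V) = a • ((1 : K) ⊗ₜ[D] g) by rw [TensorProduct.smul_tmul', smul_eq_mul, mul_one]]
      exact Submodule.smul_mem _ _ (Submodule.subset_span ⟨g, rfl⟩)
    | add a b ha hb => exact add_mem (ha trivial) (hb trivial)
  obtain ⟨t, ht, hts, hli⟩ := exists_linearIndependent K (Set.range fun g : G => ((1 : K) ⊗ₜ[D] g : V))
  haveI : Fintype t := hli.setFinite.fintype
  let b₀ : Module.Basis t K V := Module.Basis.mk hli (by rw [Subtype.range_coe_subtype, Set.setOf_mem_eq, hts, hspan])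
  let b : Module.Basis (Fin (Fintype.card t)) K V := b₀.reindex (Fintype.equivFin t)
  choose g hg using fun i => ht ((Fintype.equivFin t).symm i).2
  have hb : ∀ i, b i = (1 : K) ⊗ₜ[D] g i := fun i => by
    rw [Module.Basis.reindex_apply, Module.Basis.mk_apply]
    exact (hg i).symm
  let α : (Fin (Fintype.card t) → D) →ₗ[D] G := Fintype.linearCombination D g
  let e : Module.Basis (Fin (Fintype.card t)) K (K ⊗[D] (Fin (Fintype.card t) → D)) :=
    Algebra.TensorProduct.basis K (Pi.basisFun D (Fin (Fintype.card t)))
  have he : α.baseChange K = (e.equiv b (Equiv.refl _)).toLinearMap := e.ext fun i => by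
    rw [LinearEquiv.coe_coe, Module.Basis.equiv_apply, Equiv.refl_apply, hb,
      Algebra.TensorProduct.basis_apply, LinearMap.baseChange_tmul, Pi.basisFun_apply,
      Fintype.linearCombination_apply_single, one_smul]
  refine ⟨_, α, he ▸ (e.equiv b (Equiv.refl _)).bijective, fun h0 => ?_⟩
  haveI : IsEmpty (Fin (Fintype.card t)) := h0 ▸ Fin.isEmpty
  exact b.repr.toEquiv.subsingleton

end Groth.Agent.DevissLib
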