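import Mathlib

/-!
# Geometric irreducibility of open pieces and residue fields generated by fractions
-/

set_option autoImplicit false
set_option linter.style.haveILetI false
set_option backward.isDefEq.respectTransparency false
set_option backward.isDefEq.respectTransparency.types false
set_option maxHeartbeats 1000000

universe u

open CategoryTheory CategoryTheory.Limits AlgebraicGeometry

noncomputable section

namespace Groth.Agent.DevissLib

/-- An open piece meeting every fibre over a subscheme of a geometrically irreducible scheme. -/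
theorem geometricallyIrreducible_of_open {W V U S : Scheme.{u}} (h : V ⟶ S) [GeometricallyIrreducible h]
    (j : W ⟶ V) [IsOpenImmersion j] (i : U ⟶ S) [Mono i] (w : W ⟶ U) (e : w ≫ i = j ≫ h) [Surjective w] :
    GeometricallyIrreducible w := by
  refine ⟨geometrically_iff_of_isClosedUnderIsomorphisms.mpr fun K _ y => ?_⟩
  haveI : IrreducibleSpace ↥(pullback h (y ≫ i)) :=
    GeometricallyIrreducible.geometrically_irreducibleSpace (f := h) _ _ _ (IsPullback.of_hasPullback _ _)
  have sq : IsPullback (pullback.fst w y) (pullback.snd w y) (w ≫ i) (y ≫ i) :=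
    IsPullback.of_isLimit' ⟨pullback.condition_assoc i⟩ (pullbackIsPullbackOfCompMono w y i)
  let m : pullback w y ⟶ pullback h (y ≫ i) :=
    sq.isoPullback.hom ≫ pullback.map (w ≫ i) (y ≫ i) h (y ≫ i) j (𝟙 _) (𝟙 _) (by rw [Category.comp_id, e]) (by simp)
  haveI : IsOpenImmersion m := inferInstance
  haveI : Nonempty ↥(pullback w y) :=
    (MorphismProperty.pullback_snd (P := @Surjective) w y ‹_›).surj (IsLocalRing.closedPoint K) |>.nonempty
  haveI : PreirreducibleSpace ↥(pullback w y) := m.isOpenEmbedding.preirreducibleSpace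
  exact ⟨inferInstance⟩

/-- The residue map is bijective when every element is a fraction of the base modulo the prime. -/
theorem residue_bijective_of_frac {A B : Type u} [CommRing A] [CommRing B] [Algebra A B] (P : Ideal A) [P.IsPrime]
    (Q : Ideal B) [Q.IsPrime] [Q.LiesOver P]
    (h : ∀ b : B, ∃ c a : A, c ∉ P ∧ algebraMap A B c * b - algebraMap A B a ∈ Q) :
    Function.Bijective (Ideal.ResidueField.mapₐ P Q (Algebra.ofId A B) (Q.over_def P)) := by
  let ψ := Ideal.ResidueField.mapₐ P Q (Algebra.ofId A B) (Q.over_def P)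
  refine ⟨ψ.toRingHom.injective, fun z => ?_⟩
  have key : ∀ b : B, ∃ z, ψ z = algebraMap B Q.ResidueField b := fun b => by
    obtain ⟨c, a, hc, hab⟩ := h b
    have hc0 : algebraMap A P.ResidueField c ≠ 0 := fun h0 => hc (Ideal.algebraMap_residueField_eq_zero.1 h0)
    refine ⟨algebraMap A P.ResidueField a / algebraMap A P.ResidueField c, ?_⟩
    rw [map_div₀, ψ.commutes, ψ.commutes, div_eq_iff ((map_ne_zero ψ.toRingHom).2 hc0 |> fun h => by
      rwa [AlgHom.toRingHom_eq_coe, RingHom.coe_coe, ψ.commutes] at h),
      IsScalarTower.algebraMap_apply A B Q.ResidueField, IsScalarTower.algebraMap_apply A B Q.ResidueField,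
      ← map_mul, eq_comm, ← sub_eq_zero, ← map_sub, Ideal.algebraMap_residueField_eq_zero, mul_comm]
    exact hab
  obtain ⟨b, t, ht, rfl⟩ := IsFractionRing.div_surjective (A := B ⧸ Q) z
  obtain ⟨b, rfl⟩ := Ideal.Quotient.mk_surjective b
  obtain ⟨t, rfl⟩ := Ideal.Quotient.mk_surjective t
  obtain ⟨zb, hb⟩ := key b
  obtain ⟨zt, ht'⟩ := key t
  refine ⟨zb / zt, ?_⟩
  rw [map_div₀, hb, ht']
  rfl

end Groth.Agent.DevissLib
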