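import Groth.Prelude.Def_FlatCA
import Groth.Agent.DevissLib.OpenIrred
import Mathlib

/-!
# Residue fields generated by fractions, pure transcendence and relative dimension
-/

set_option autoImplicit false
set_option linter.style.haveILetI false
set_option backward.isDefEq.respectTransparency false
set_option backward.isDefEq.respectTransparency.types false
set_option maxHeartbeats 1000000

universe u

open AlgebraicGeometry CategoryTheory TensorProduct

noncomputable section

namespace Groth.Agent.DevissLib

section Frac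

variable {A B : Type u} [CommRing A] [CommRing B] [Algebra A B]

/-- Every element of `B` is a fraction from `A` modulo `Q`. -/
def FracMod (P : Ideal A) (Q : Ideal B) : Prop :=
  ∀ b : B, ∃ c a : A, c ∉ P ∧ algebraMap A B c * b - algebraMap A B a ∈ Q

theorem fracMod_of_bijective (P : Ideal A) [P.IsPrime] (Q : Ideal B) [Q.IsPrime] [Q.LiesOver P]
    (h : Function.Bijective (Ideal.ResidueField.mapₐ P Q (Algebra.ofId A B) (Q.over_def P))) : FracMod P Q := by
  intro z
  obtain ⟨w, hw⟩ := h.2 (algebraMap B Q.ResidueField z)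
  obtain ⟨b, c, hc, rfl⟩ := IsFractionRing.div_surjective (A := A ⧸ P) w
  obtain ⟨b, rfl⟩ := Ideal.Quotient.mk_surjective b
  obtain ⟨c, rfl⟩ := Ideal.Quotient.mk_surjective c
  have hcp : c ∉ P := fun hm => (nonZeroDivisors.ne_zero hc) (Ideal.Quotient.eq_zero_iff_mem.2 hm)
  refine ⟨c, b, hcp, ?_⟩
  rw [← Ideal.algebraMap_residueField_eq_zero, map_sub, map_mul, ← hw, sub_eq_zero, map_div₀,
    ← IsScalarTower.algebraMap_apply A B Q.ResidueField, ← IsScalarTower.algebraMap_apply A B Q.ResidueField]
  have hmk : ∀ t : A, algebraMap (A ⧸ P) P.ResidueField (Ideal.Quotient.mk P t) = algebraMap A P.ResidueField t :=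
    fun _ => rfl
  rw [hmk, hmk, AlgHom.commutes, AlgHom.commutes, mul_div_cancel₀]
  intro h0
  rw [IsScalarTower.algebraMap_apply A B Q.ResidueField, Ideal.algebraMap_residueField_eq_zero] at h0
  exact hcp ((Q.over_def P).ge h0)

theorem FracMod.trans {C : Type u} [CommRing C] [Algebra B C] [Algebra A C] [IsScalarTower A B C]
    {P : Ideal A} [P.IsPrime] {Q : Ideal B} [Q.IsPrime] [Q.LiesOver P] {U : Ideal C} [U.LiesOver Q]
    (h : FracMod P Q) (h' : FracMod Q U) : FracMod P U := by
  intro z
  obtain ⟨c, b, hc, hcb⟩ := h' z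
  obtain ⟨c₁, a₁, hc₁, hca₁⟩ := h c
  obtain ⟨c₂, a₂, hc₂, hca₂⟩ := h b
  have ha₁ : a₁ ∉ P := fun hm => by
    have h1 := Q.add_mem hca₁ ((Q.over_def P).le hm)
    rw [sub_add_cancel] at h1
    exact ((inferInstance : Q.IsPrime).mem_or_mem h1).elim (fun hh => hc₁ ((Q.over_def P).ge hh)) hc
  refine ⟨c₂ * a₁, c₁ * a₂, P.primeCompl.mul_mem hc₂ ha₁, ?_⟩
  have e₁ := (U.over_def Q).le hca₁
  have e₂ := (U.over_def Q).le hca₂
  rw [Ideal.mem_comap, map_sub, map_mul, ← IsScalarTower.algebraMap_apply A B C,
    ← IsScalarTower.algebraMap_apply A B C] at e₁ e₂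
  rw [map_mul, map_mul, show algebraMap A C c₂ * algebraMap A C a₁ * z - algebraMap A C c₁ * algebraMap A C a₂ =
    algebraMap A C c₁ * algebraMap A C c₂ * (algebraMap B C c * z - algebraMap B C b) +
      algebraMap A C c₁ * (algebraMap A C c₂ * algebraMap B C b - algebraMap A C a₂) -
      algebraMap A C c₂ * z * (algebraMap A C c₁ * algebraMap B C c - algebraMap A C a₁) by ring]
  exact U.sub_mem (U.add_mem (U.mul_mem_left _ hcb) (U.mul_mem_left _ e₂)) (U.mul_mem_left _ e₁)

attribute [local instance] Algebra.TensorProduct.rightAlgebra in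
/-- Fractions suffice after base change. -/
theorem FracMod.tensor {C : Type u} [CommRing C] [Algebra A C] {P : Ideal A} [P.IsPrime] {Q : Ideal B} [Q.LiesOver P]
    (h : FracMod P Q) (Y : Ideal (B ⊗[A] C)) [Y.LiesOver Q] (Pc : Ideal C) [Pc.IsPrime] [Pc.LiesOver P] :
    FracMod Pc Y := by
  intro z
  induction z using TensorProduct.induction_on with
  | zero => exact ⟨1, 0, Pc.one_notMem, by simp⟩
  | tmul α d =>
    obtain ⟨c, b, hc, hcb⟩ := h α
    refine ⟨algebraMap A C c, algebraMap A C b * d, fun hm => hc ((Pc.over_def P).ge hm), ?_⟩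
    rw [map_mul, ← IsScalarTower.algebraMap_apply A C, ← IsScalarTower.algebraMap_apply A C,
      show (α ⊗ₜ[A] d : B ⊗[A] C) = algebraMap B (B ⊗[A] C) α * algebraMap C (B ⊗[A] C) d by
        show _ = (α ⊗ₜ[A] (1 : C)) * ((1 : B) ⊗ₜ[A] d)
        rw [Algebra.TensorProduct.tmul_mul_tmul, mul_one, one_mul],
      IsScalarTower.algebraMap_apply A B (B ⊗[A] C) c, IsScalarTower.algebraMap_apply A B (B ⊗[A] C) b,
      ← mul_assoc, ← map_mul, ← sub_mul, ← map_sub]
    exact Y.mul_mem_right _ ((Y.over_def Q).le hcb)
  | add z z' hz hz' =>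
    obtain ⟨c, b, hc, hcb⟩ := hz
    obtain ⟨c', b', hc', hcb'⟩ := hz'
    refine ⟨c * c', c' * b + c * b', Pc.primeCompl.mul_mem hc hc', ?_⟩
    rw [map_mul, map_add, map_mul, map_mul,
      show algebraMap C (B ⊗[A] C) c * algebraMap C _ c' * (z + z') -
          (algebraMap C _ c' * algebraMap C _ b + algebraMap C _ c * algebraMap C _ b') =
        algebraMap C _ c' * (algebraMap C _ c * z - algebraMap C _ b) +
          algebraMap C _ c * (algebraMap C _ c' * z' - algebraMap C _ b') by ring]
    exact Y.add_mem (Y.mul_mem_left _ hcb) (Y.mul_mem_left _ hcb')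

/-- Fractions suffice after localising away from the prime. -/
theorem FracMod.away {C : Type u} [CommRing C] [Algebra B C] [Algebra A C] [IsScalarTower A B C] (g : B)
    [IsLocalization.Away g C] {P : Ideal A} [P.IsPrime] {Q : Ideal B} [Q.IsPrime] [Q.LiesOver P]
    {U : Ideal C} [U.LiesOver Q] (hg : g ∉ Q) (h : FracMod P Q) : FracMod P U := by
  refine h.trans (fun z => ?_)
  obtain ⟨w, ⟨_, k, rfl⟩, rfl⟩ := IsLocalization.exists_mk'_eq (Submonoid.powers g) z
  refine ⟨g ^ k, w, fun hh => hg ((inferInstance : Q.IsPrime).mem_of_pow_mem k hh), ?_⟩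
  rw [IsLocalization.mk'_spec'_mk, sub_self]
  exact U.zero_mem

end Frac

/-- Independence modulo a prime is independence in the residue field. -/
theorem independent_residueField {A B : Type u} [CommRing A] [CommRing B] [Algebra A B] {ι : Type} (p : Ideal A) [p.IsPrime]
    (P : Ideal B) [P.IsPrime] [P.LiesOver p] [Algebra p.ResidueField P.ResidueField]
    [IsScalarTower A p.ResidueField P.ResidueField] (x : ι → B)
    (hind : AlgebraicIndependent (A ⧸ p) (fun i => Ideal.Quotient.mk P (x i))) :
    AlgebraicIndependent p.ResidueField (fun i => algebraMap B P.ResidueField (x i)) := by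
  letI : Algebra (A ⧸ p) P.ResidueField :=
    ((algebraMap p.ResidueField P.ResidueField).comp (algebraMap (A ⧸ p) p.ResidueField)).toAlgebra
  haveI : IsScalarTower (A ⧸ p) p.ResidueField P.ResidueField := .of_algebraMap_eq fun _ => rfl
  haveI : IsScalarTower (A ⧸ p) (B ⧸ P) P.ResidueField := .of_algebraMap_eq fun a => by
    obtain ⟨a, rfl⟩ := Ideal.Quotient.mk_surjective a
    show algebraMap p.ResidueField P.ResidueField (algebraMap A p.ResidueField a) =
      algebraMap B P.ResidueField (algebraMap A B a)
    rw [← IsScalarTower.algebraMap_apply, ← IsScalarTower.algebraMap_apply]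
  haveI : Algebra.IsAlgebraic (A ⧸ p) p.ResidueField :=
    (IsFractionRing.comap_isAlgebraic_iff (A := A ⧸ p) (K := p.ResidueField) (C := p.ResidueField)).2 inferInstance
  have h1 : AlgebraicIndependent (A ⧸ p) (fun i => algebraMap B P.ResidueField (x i)) :=
    hind.map' (f := IsScalarTower.toAlgHom (A ⧸ p) (B ⧸ P) P.ResidueField)
      (Ideal.injective_algebraMap_quotient_residueField P)
  exact h1.extendScalars p.ResidueField

/-- A prime of a polynomial algebra at which some coordinates are independent and the others vanish has purely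
transcendental residue field. -/
theorem purelyTranscendental_mvPolynomial {A : Type u} [CommRing A] {ι₁ ι₂ : Type} (p : Ideal A) [p.IsPrime]
    (P : Ideal (MvPolynomial (ι₁ ⊕ ι₂) A)) [P.IsPrime] [P.LiesOver p]
    (hvan : ∀ j, (MvPolynomial.X (Sum.inr j) : MvPolynomial (ι₁ ⊕ ι₂) A) ∈ P)
    (hind : AlgebraicIndependent (A ⧸ p) (fun i => Ideal.Quotient.mk P (MvPolynomial.X (Sum.inl i) : MvPolynomial (ι₁ ⊕ ι₂) A))) :
    FlatCA.PurelyTranscendental p P := by
  show letI : Algebra p.ResidueField P.ResidueField :=
      (Ideal.ResidueField.mapₐ p P (Algebra.ofId A _) (P.over_def p)).toRingHom.toAlgebra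
    ∃ (ι : Type u) (x : ι → P.ResidueField), IsTranscendenceBasis p.ResidueField x ∧
      IntermediateField.adjoin p.ResidueField (Set.range x) = ⊤
  letI : Algebra p.ResidueField P.ResidueField :=
    (Ideal.ResidueField.mapₐ p P (Algebra.ofId A _) (P.over_def p)).toRingHom.toAlgebra
  haveI : IsScalarTower A p.ResidueField P.ResidueField := .of_algebraMap_eq fun a =>
    ((Ideal.ResidueField.mapₐ p P (Algebra.ofId A _) (P.over_def p)).commutes a).symm
  let x : ULift.{u} ι₁ → P.ResidueField := fun i => algebraMap (MvPolynomial (ι₁ ⊕ ι₂) A) P.ResidueField (MvPolynomial.X (Sum.inl i.down))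
  refine ⟨_, x, ?_⟩
  have htop : IntermediateField.adjoin p.ResidueField (Set.range x) = ⊤ := by
    refine eq_top_iff.2 fun z _ => ?_
    obtain ⟨b, c, -, rfl⟩ := IsFractionRing.div_surjective (A := MvPolynomial (ι₁ ⊕ ι₂) A ⧸ P) z
    obtain ⟨b, rfl⟩ := Ideal.Quotient.mk_surjective b
    obtain ⟨c, rfl⟩ := Ideal.Quotient.mk_surjective c
    have key : ∀ f, algebraMap (MvPolynomial (ι₁ ⊕ ι₂) A) P.ResidueField f ∈
        IntermediateField.adjoin p.ResidueField (Set.range x) := by
      intro f
      induction f using MvPolynomial.induction_on with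
      | C a =>
        rw [← MvPolynomial.algebraMap_eq, ← IsScalarTower.algebraMap_apply, IsScalarTower.algebraMap_apply A p.ResidueField]
        exact IntermediateField.algebraMap_mem _ _
      | add f g hf hg => rw [map_add]; exact add_mem hf hg
      | mul_X f i hf =>
        rw [map_mul]
        refine mul_mem hf ?_
        cases i with
        | inl i => exact IntermediateField.subset_adjoin _ _ ⟨ULift.up i, rfl⟩
        | inr j => rw [Ideal.algebraMap_residueField_eq_zero.2 (hvan j)]; exact zero_mem _
    exact div_mem (key b) (key c)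
  have hx : AlgebraicIndependent p.ResidueField x := by
    exact (independent_residueField p P _ hind).comp ULift.down Equiv.ulift.injective
  refine ⟨hx.isTranscendenceBasis_iff_isAlgebraic.2 ?_, htop⟩
  haveI : Algebra.IsAlgebraic (IntermediateField.adjoin p.ResidueField (Set.range x)) P.ResidueField :=
    ⟨fun z => isAlgebraic_algebraMap (⟨z, htop ▸ IntermediateField.mem_top⟩ : IntermediateField.adjoin p.ResidueField (Set.range x))⟩
  exact IntermediateField.isAlgebraic_adjoin_iff_top.1 inferInstance

theorem purelyTranscendental_of_bijective {A A' B B' : Type u} [CommRing A] [CommRing A'] [CommRing B] [CommRing B']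
    [Algebra A B] [Algebra A' B'] [Algebra A A'] [Algebra B B'] [Algebra A B'] [IsScalarTower A A' B'] [IsScalarTower A B B']
    {p : Ideal A} [p.IsPrime] {p' : Ideal A'} [p'.IsPrime] [p'.LiesOver p]
    {P : Ideal B} [P.IsPrime] [P.LiesOver p] {y : Ideal B'} [y.IsPrime] [y.LiesOver P] [y.LiesOver p']
    (h₀ : Function.Bijective (Ideal.ResidueField.mapₐ p p' (Algebra.ofId A A') (p'.over_def p)))
    (h₁ : Function.Bijective (Ideal.ResidueField.mapₐ P y (Algebra.ofId B B') (y.over_def P)))
    (h : FlatCA.PurelyTranscendental p P) : FlatCA.PurelyTranscendental p' y := by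
  letI : Algebra p.ResidueField P.ResidueField :=
    (Ideal.ResidueField.mapₐ p P (Algebra.ofId A B) (P.over_def p)).toRingHom.toAlgebra
  letI : Algebra p'.ResidueField y.ResidueField :=
    (Ideal.ResidueField.mapₐ p' y (Algebra.ofId A' B') (y.over_def p')).toRingHom.toAlgebra
  obtain ⟨ι, x, hx, htop⟩ := h
  let f₀ := (Ideal.ResidueField.mapₐ p p' (Algebra.ofId A A') (p'.over_def p)).toRingHom
  let f₁ := (Ideal.ResidueField.mapₐ P y (Algebra.ofId B B') (y.over_def P)).toRingHom
  have hcomm : (algebraMap p'.ResidueField y.ResidueField).comp f₀ = f₁.comp (algebraMap p.ResidueField P.ResidueField) := by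
    refine Ideal.ResidueField.ringHom_ext (RingHom.ext fun a => ?_)
    show Ideal.ResidueField.mapₐ p' y _ _ (Ideal.ResidueField.mapₐ p p' _ _ (algebraMap A p.ResidueField a)) =
      Ideal.ResidueField.mapₐ P y _ _ (Ideal.ResidueField.mapₐ p P _ _ (algebraMap A p.ResidueField a))
    rw [AlgHom.commutes, AlgHom.commutes, IsScalarTower.algebraMap_apply A A' p'.ResidueField, AlgHom.commutes,
      IsScalarTower.algebraMap_apply A B P.ResidueField, AlgHom.commutes,
      IsScalarTower.algebraMap_apply A' B' y.ResidueField, IsScalarTower.algebraMap_apply B B' y.ResidueField,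
      ← IsScalarTower.algebraMap_apply A A' B', ← IsScalarTower.algebraMap_apply A B B']
  have hind : AlgebraicIndependent p'.ResidueField (f₁ ∘ x) :=
    hx.1.ringHom_of_comp_eq (f := f₀) (g := f₁) h₀.2 h₁.1 hcomm
  have htop' : IntermediateField.adjoin p'.ResidueField (Set.range (f₁ ∘ x)) = ⊤ := by
    let L := IntermediateField.adjoin p'.ResidueField (Set.range (f₁ ∘ x))
    refine eq_top_iff.2 fun z _ => ?_
    obtain ⟨w, rfl⟩ := h₁.2 z
    have hle : IntermediateField.adjoin p.ResidueField (Set.range x) ≤
        ({ L.toSubfield.comap f₁ with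
           algebraMap_mem' := fun c => by
            show f₁ (algebraMap p.ResidueField P.ResidueField c) ∈ L
            rw [← RingHom.comp_apply, ← hcomm]
            exact L.algebraMap_mem _ } : IntermediateField p.ResidueField P.ResidueField) :=
      IntermediateField.adjoin_le_iff.2 (by
        rintro _ ⟨i, rfl⟩
        exact IntermediateField.subset_adjoin p'.ResidueField _ ⟨i, rfl⟩)
    exact hle (htop ▸ IntermediateField.mem_top : w ∈ IntermediateField.adjoin p.ResidueField (Set.range x))
  refine ⟨ι, f₁ ∘ x, hind.isTranscendenceBasis_iff_isAlgebraic.2 ?_, htop'⟩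
  haveI : Algebra.IsAlgebraic (IntermediateField.adjoin p'.ResidueField (Set.range (f₁ ∘ x))) y.ResidueField :=
    ⟨fun z => isAlgebraic_algebraMap (⟨z, htop' ▸ IntermediateField.mem_top⟩ :
      IntermediateField.adjoin p'.ResidueField (Set.range (f₁ ∘ x)))⟩
  exact IntermediateField.isAlgebraic_adjoin_iff_top.1 inferInstance

/-- Etale algebras over polynomial algebras are smooth of relative dimension the number of variables. -/
theorem smoothRelDim_of_etale {R D : Type u} [CommRing R] [Nontrivial R] [CommRing D] {ι : Type} [Fintype ι]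
    [Algebra R D] [Algebra (MvPolynomial ι R) D] [IsScalarTower R (MvPolynomial ι R) D]
    [Algebra.Etale (MvPolynomial ι R) D] : FlatCA.SmoothRelDim (Fintype.card ι) R D := by
  haveI : Algebra.IsStandardSmooth R (MvPolynomial ι R) := by
    rw [Algebra.IsStandardSmooth.iff_exists_basis_kaehlerDifferential]
    refine ⟨inferInstance, _, KaehlerDifferential.mvPolynomialBasis R ι, ?_⟩
    rintro _ ⟨i, rfl⟩
    exact ⟨MvPolynomial.X i, (KaehlerDifferential.mvPolynomialBasis_apply R ι i).symm⟩
  haveI hT : Algebra.IsStandardSmoothOfRelativeDimension (Fintype.card ι) R (MvPolynomial ι R) := by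
    rw [Algebra.IsStandardSmoothOfRelativeDimension.iff_of_isStandardSmooth,
      rank_eq_card_basis (KaehlerDifferential.mvPolynomialBasis R ι)]
  let a := Spec.map (CommRingCat.ofHom (algebraMap (MvPolynomial ι R) D))
  let b := Spec.map (CommRingCat.ofHom (algebraMap R (MvPolynomial ι R)))
  haveI : Etale a := (HasRingHomProperty.Spec_iff (P := @Etale)).2 (RingHom.etale_algebraMap.2 inferInstance)
  haveI : SmoothOfRelativeDimension 0 a := (Etale.iff_smoothOfRelativeDimension_zero a).1 inferInstance
  haveI : SmoothOfRelativeDimension (Fintype.card ι) b :=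
    (HasRingHomProperty.Spec_iff (P := @SmoothOfRelativeDimension (Fintype.card ι))).2
      (RingHom.locally_of RingHom.isStandardSmoothOfRelativeDimension_respectsIso _
        ((RingHom.isStandardSmoothOfRelativeDimension_algebraMap _).2 hT))
  show SmoothOfRelativeDimension (Fintype.card ι) (Spec.map (CommRingCat.ofHom (algebraMap R D)))
  rw [show Spec.map (CommRingCat.ofHom (algebraMap R D)) = a ≫ b by
    simp only [a, b, ← Spec.map_comp, ← CommRingCat.ofHom_comp, ← IsScalarTower.algebraMap_eq]]
  simpa using (inferInstance : SmoothOfRelativeDimension (0 + Fintype.card ι) (a ≫ b))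

theorem localDim_homeomorph {X Y : Type u} [TopologicalSpace X] [TopologicalSpace Y] (e : X ≃ₜ Y) (x : X) :
    FlatMor.localDim X x = FlatMor.localDim Y (e x) := by
  have key : ∀ {X Y : Type u} [TopologicalSpace X] [TopologicalSpace Y] (e : X ≃ₜ Y) (x : X),
      FlatMor.localDim X x ≤ FlatMor.localDim Y (e x) := by
    intro X Y _ _ e x
    refine le_iInf fun U => iInf_le_of_le ⟨⟨e ⁻¹' (U.1 : Set Y), U.1.isOpen.preimage e.continuous⟩, U.2⟩ ?_
    exact (IsHomeomorph.topologicalKrullDim_eq _ (e.image (e ⁻¹' (U.1 : Set Y))).isHomeomorph).le.trans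
      (le_of_eq (congrArg (fun s : Set Y => topologicalKrullDim s) (e.image_preimage _)))
  refine le_antisymm (key e x) ?_
  have h := key e.symm (e x)
  rwa [e.symm_apply_apply] at h

end Groth.Agent.DevissLib
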