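import Mathlib

/-!
# Purely transcendental extensions contain no algebraic elements
-/

set_option autoImplicit false
set_option linter.style.haveILetI false
set_option maxHeartbeats 1000000

universe u v

noncomputable section

namespace Groth.Agent.DevissLib

/-- A field generated by independent elements has no new separable algebraic elements. -/
theorem separableClosure_eq_bot_of_adjoin {k : Type u} {K : Type v} [Field k] [Field K] [Algebra k K] {ι : Type*}
    (x : ι → K) (hx : AlgebraicIndependent k x) (htop : IntermediateField.adjoin k (Set.range x) = ⊤) :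
    separableClosure k K = ⊥ := by
  classical
  haveI hIC : IsIntegrallyClosed (MvPolynomial ι k) := inferInstance
  let φ : MvPolynomial ι k →ₐ[k] K := MvPolynomial.aeval x
  letI : Algebra (MvPolynomial ι k) K := φ.toRingHom.toAlgebra
  haveI : IsScalarTower k (MvPolynomial ι k) K := .of_algebraMap_eq fun a => (φ.commutes a).symm
  haveI : FaithfulSMul (MvPolynomial ι k) K := (faithfulSMul_iff_algebraMap_injective _ _).2 hx
  haveI : IsFractionRing (MvPolynomial ι k) K := by
    refine IsFractionRing.of_field (MvPolynomial ι k) K fun z => ?_
    obtain ⟨r, s, hrs⟩ := (IntermediateField.mem_adjoin_range_iff k x z).1 (htop ▸ IntermediateField.mem_top)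
    exact ⟨r, s, hrs⟩
  refine eq_bot_iff.2 fun z hz => ?_
  have hint : IsIntegral k z := (mem_separableClosure_iff.1 hz).isIntegral
  obtain ⟨g, rfl⟩ := IsIntegrallyClosed.isIntegral_iff.1 (hint.tower_top (A := MvPolynomial ι k))
  let ev : MvPolynomial ι k →ₐ[k] k := MvPolynomial.aeval fun _ => 0
  have hg : Polynomial.aeval g (minpoly k (algebraMap (MvPolynomial ι k) K g)) = 0 := by
    apply FaithfulSMul.algebraMap_injective (MvPolynomial ι k) K
    rw [← Polynomial.aeval_algebraMap_apply, minpoly.aeval, map_zero]
  have hroot : Polynomial.IsRoot (minpoly k (algebraMap (MvPolynomial ι k) K g)) (ev g) := by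
    have := congrArg ev hg
    rw [← Polynomial.aeval_algHom_apply, map_zero, Polynomial.coe_aeval_eq_eval] at this
    exact this
  have hdeg := Polynomial.degree_eq_one_of_irreducible_of_root (minpoly.irreducible hint) hroot
  obtain ⟨c, hc⟩ := minpoly.mem_range_of_degree_eq_one k _ hdeg
  exact IntermediateField.mem_bot.2 ⟨c, hc⟩

end Groth.Agent.DevissLib
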