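import Groth.Prelude.Def_FlatCA
import Groth.Agent.ASp.PropDescend
import Groth.Agent.ProjPureLib.Approx
import Groth.Agent.S0582
import Mathlib

/-!
# Localisation along finite maps with one point over a prime, and smooth algebras with irreducible fibres
-/

set_option autoImplicit false
set_option linter.style.haveILetI false
set_option backward.isDefEq.respectTransparency false
set_option backward.isDefEq.respectTransparency.types false
set_option maxHeartbeats 1000000

universe u

open CategoryTheory CategoryTheory.Limits AlgebraicGeometry TensorProduct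

noncomputable section

namespace Groth.Agent.DevissLib

theorem geomIntegralFibres_of_smooth {R B : Type u} [CommRing R] [CommRing B] [Algebra R B] [Algebra.Smooth R B]
    (h : FlatCA.GeomIrredFibres R B) : FlatCA.GeomIntegralFibres R B := by
  haveI := h
  haveI : Smooth (Spec.map (CommRingCat.ofHom (algebraMap R B))) :=
    (HasRingHomProperty.Spec_iff (P := @Smooth)).2 (RingHom.smooth_algebraMap.2 inferInstance)
  haveI : GeometricallyReduced (Spec.map (CommRingCat.ofHom (algebraMap R B))) := ⟨fun K _ y Z fst snd sq => by
    haveI : Smooth snd := MorphismProperty.of_isPullback sq inferInstance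
    haveI : IsReduced (Spec (CommRingCat.of K)) := inferInstance
    exact ASp.isReduced_of_smooth snd⟩
  exact GeometricallyIntegral.of_geometricallyReduced_of_geometricallyIrreducible _

/-- Smooth algebras with geometrically irreducible fibres are projective modules. -/
theorem projective_of_smooth {R B : Type u} [CommRing R] [CommRing B] [Algebra R B] [Algebra.Smooth R B]
    (h : FlatCA.GeomIrredFibres R B) : Module.Projective R B := by
  let f := Spec.map (CommRingCat.ofHom (algebraMap R B))
  haveI : Smooth f := (HasRingHomProperty.Spec_iff (P := @Smooth)).2 (RingHom.smooth_algebraMap.2 inferInstance)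
  haveI : GeometricallyIntegral f := geomIntegralFibres_of_smooth h
  have hproj := ProjPureLib.projective_of_geometricallyIntegral f
  letI := f.appTop.hom.toAlgebra
  let e₁ := (Scheme.ΓSpecIso (CommRingCat.of R)).commRingCatIsoToRingEquiv
  let e₂ := (Scheme.ΓSpecIso (CommRingCat.of B)).commRingCatIsoToRingEquiv
  haveI := RingHomInvPair.of_ringEquiv e₁
  haveI := RingHomInvPair.of_ringEquiv e₁.symm
  let e : Γ(Spec (CommRingCat.of B), ⊤) ≃ₛₗ[(e₁ : Γ(Spec (CommRingCat.of R), ⊤) →+* R)] B :=
    { e₂.toAddEquiv with
      map_smul' := fun r x => by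
        change e₂ (r • x) = e₁ r • e₂ x
        rw [Algebra.smul_def, Algebra.smul_def, map_mul, RingHom.algebraMap_toAlgebra]
        congr 1
        exact ConcreteCategory.congr_hom (Scheme.ΓSpecIso_naturality (CommRingCat.ofHom (algebraMap R B))) r }
  haveI := hproj
  exact Module.Projective.of_equiv e

theorem free_of_smooth {R B : Type u} [CommRing R] [IsLocalRing R] [CommRing B] [Algebra R B] [Algebra.Smooth R B]
    (h : FlatCA.GeomIrredFibres R B) : Module.Free R B := by
  haveI := projective_of_smooth h
  exact S0582.result R B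

variable {B A : Type u} [CommRing B] [CommRing A] [Algebra B A] [Module.Finite B A]
  (P : Ideal B) [P.IsPrime] (Q : Ideal A) [Q.IsPrime] [Q.LiesOver P]

theorem exists_mul_eq_of_notMem (huniq : ∀ (Q' : Ideal A) [Q'.IsPrime], Q'.LiesOver P → Q' = Q) {a : A} (ha : a ∉ Q) :
    ∃ (t : A) (b : B), b ∉ P ∧ t * a = algebraMap B A b := by
  by_contra h
  push Not at h
  obtain ⟨Q', hle, hQ', hc⟩ := Ideal.exists_ideal_over_prime_of_isIntegral P (Ideal.span {a}) (fun b hb => by
    by_contra hbP
    obtain ⟨t, ht⟩ := Ideal.mem_span_singleton'.1 hb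
    exact h t b hbP ht)
  haveI := hQ'
  exact ha (huniq Q' ⟨hc.symm⟩ ▸ hle (Ideal.mem_span_singleton_self a))

/-- With one prime over `P`, localising at it is the same as localising at `P`. -/
theorem isLocalizedModule_of_unique (huniq : ∀ (Q' : Ideal A) [Q'.IsPrime], Q'.LiesOver P → Q' = Q)
    (M : Type u) [AddCommGroup M] [Module A M] [Module B M] [IsScalarTower B A M] :
    IsLocalizedModule P.primeCompl ((LocalizedModule.mkLinearMap Q.primeCompl M).restrictScalars B) := by
  have hmem : ∀ b ∈ P.primeCompl, algebraMap B A b ∈ Q.primeCompl := fun b hb hQ =>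
    hb (Ideal.mem_of_liesOver Q P b |>.2 hQ)
  refine ⟨fun b => ?_, fun y => ?_, fun {x y} hxy => ?_⟩
  · have h := IsLocalizedModule.map_units (LocalizedModule.mkLinearMap Q.primeCompl M) ⟨_, hmem b b.2⟩
    rw [Module.End.isUnit_iff] at h ⊢
    convert h using 1
    funext z
    exact (algebraMap_smul A (b : B) z).symm
  · obtain ⟨⟨m, a⟩, hm⟩ := IsLocalizedModule.surj Q.primeCompl (LocalizedModule.mkLinearMap Q.primeCompl M) y
    obtain ⟨t, b, hb, htb⟩ := exists_mul_eq_of_notMem P Q huniq (a := (a : A)) a.2
    refine ⟨⟨t • m, ⟨b, hb⟩⟩, ?_⟩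
    show b • y = _
    rw [← algebraMap_smul A b y, ← htb, mul_smul, LinearMap.restrictScalars_apply, map_smul]
    exact congrArg (t • ·) hm
  · obtain ⟨a, ha⟩ := IsLocalizedModule.exists_of_eq (S := Q.primeCompl) (f := LocalizedModule.mkLinearMap Q.primeCompl M) hxy
    obtain ⟨t, b, hb, htb⟩ := exists_mul_eq_of_notMem P Q huniq (a := (a : A)) a.2
    refine ⟨⟨b, hb⟩, ?_⟩
    show b • x = b • y
    rw [← algebraMap_smul A b x, ← algebraMap_smul A b y, ← htb, mul_smul, mul_smul]
    exact congrArg (t • ·) ha

variable (R : Type u) [CommRing R] [Algebra R B] [Algebra R A] [IsScalarTower R B A]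
  (M : Type u) [AddCommGroup M] [Module A M] [Module B M] [IsScalarTower B A M] [Module R M] [IsScalarTower R B M]
  [IsScalarTower R A M]

/-- Flatness at the two points agrees. -/
theorem flatAt_iff_of_unique (huniq : ∀ (Q' : Ideal A) [Q'.IsPrime], Q'.LiesOver P → Q' = Q) :
    FlatCA.FlatAt R P M ↔ FlatCA.FlatAt R Q M := by
  haveI := isLocalizedModule_of_unique P Q huniq M
  let e : LocalizedModule P.primeCompl M ≃ₗ[R] LocalizedModule Q.primeCompl M :=
    (IsLocalizedModule.linearEquiv P.primeCompl (LocalizedModule.mkLinearMap P.primeCompl M)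
      ((LocalizedModule.mkLinearMap Q.primeCompl M).restrictScalars B)).restrictScalars R
  exact ⟨fun h => by haveI : Module.Flat R (LocalizedModule P.primeCompl M) := h; exact Module.Flat.of_linearEquiv e.symm,
    fun h => by haveI : Module.Flat R (LocalizedModule Q.primeCompl M) := h; exact Module.Flat.of_linearEquiv e⟩

end Groth.Agent.DevissLib
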