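import Groth.Agent.DevissLib.Complete
import Groth.Agent.PullbackMod.Descent

/-!
# Finite presentation of localised modules along base change and along finite maps
-/

set_option autoImplicit false
set_option linter.style.haveILetI false
set_option backward.isDefEq.respectTransparency false
set_option backward.isDefEq.respectTransparency.types false
set_option maxHeartbeats 1000000

universe u

open TensorProduct

noncomputable section

namespace Groth.Agent.DevissLib

section BaseChange

variable {S T : Type u} [CommRing S] [CommRing T] [Algebra S T]
  {M N : Type u} [AddCommGroup M] [Module S M] [AddCommGroup N] [Module T N] [Module S N] [IsScalarTower S T N]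
  {h : M →ₗ[S] N} (U : Submonoid S) (V : Submonoid T)
  [Algebra (Localization U) (Localization V)] [IsScalarTower S (Localization U) (Localization V)]

/-- The base change of the localised module. -/
theorem exists_localized_equiv (hh : IsBaseChange T h) :
    Nonempty (Localization V ⊗[Localization U] LocalizedModule U M ≃ₗ[Localization V] LocalizedModule V N) := by
  let φ : M →ₗ[S] Localization V ⊗[Localization U] LocalizedModule U M :=
    ((TensorProduct.mk (Localization U) (Localization V) (LocalizedModule U M) 1).restrictScalars S).comp
      (LocalizedModule.mkLinearMap U M)
  have hφ : IsBaseChange (Localization V) φ :=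
    IsBaseChange.comp (LocalizedModule.isBaseChange U M) (TensorProduct.isBaseChange (Localization U) (LocalizedModule U M) (Localization V))
  let ψ : M →ₗ[S] LocalizedModule V N := ((LocalizedModule.mkLinearMap V N).restrictScalars S).comp h
  have hψ : IsBaseChange (Localization V) ψ := IsBaseChange.comp hh (LocalizedModule.isBaseChange V N)
  exact ⟨hφ.equiv.symm.trans hψ.equiv⟩

theorem fp_localized_baseChange (hh : IsBaseChange T h)
    (hM : Module.FinitePresentation (Localization U) (LocalizedModule U M)) :
    Module.FinitePresentation (Localization V) (LocalizedModule V N) := by
  haveI := hM
  obtain ⟨e⟩ := exists_localized_equiv U V hh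
  exact Module.FinitePresentation.of_equiv e

theorem fp_localized_descent [Module.FaithfullyFlat (Localization U) (Localization V)] (hh : IsBaseChange T h)
    (hN : Module.FinitePresentation (Localization V) (LocalizedModule V N)) :
    Module.FinitePresentation (Localization U) (LocalizedModule U M) := by
  haveI := hN
  obtain ⟨e⟩ := exists_localized_equiv U V hh
  haveI := Module.FinitePresentation.of_equiv e.symm
  exact PullbackMod.finitePresentation_of_baseChange (Localization V) (LocalizedModule U M)

end BaseChange

/-- Localisations of a finite algebra and of the base agree on finite presentation. -/
theorem fp_localized_finite {B A : Type u} [CommRing B] [CommRing A] [Algebra B A] [Module.Finite B A]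
    [Algebra.FinitePresentation B A] (U : Submonoid B) (U' : Submonoid A) (hU : ∀ b ∈ U, algebraMap B A b ∈ U')
    (hloc : ∀ (X : Type u) [AddCommGroup X] [Module A X] [Module B X] [IsScalarTower B A X],
      IsLocalizedModule U ((LocalizedModule.mkLinearMap U' X).restrictScalars B))
    (X : Type u) [AddCommGroup X] [Module A X] [Module B X] [IsScalarTower B A X] :
    Module.FinitePresentation (Localization U') (LocalizedModule U' X) ↔
      Module.FinitePresentation (Localization U) (LocalizedModule U X) := by
  have hunit : ∀ u : U, IsUnit (algebraMap B (Localization U') u) := fun u => by
    rw [IsScalarTower.algebraMap_apply B A (Localization U')]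
    exact IsLocalization.map_units (Localization U') (⟨_, hU u u.2⟩ : U')
  letI : Algebra (Localization U) (Localization U') := (IsLocalization.lift hunit).toAlgebra
  haveI : IsScalarTower B (Localization U) (Localization U') :=
    IsScalarTower.of_algebraMap_eq fun x => (IsLocalization.lift_eq hunit x).symm
  haveI := hloc A
  let f : A →ₗ[B] Localization U' := (Algebra.linearMap A (Localization U')).restrictScalars B
  haveI : IsLocalizedModule U f := by
    have heq : f = ((IsLocalizedModule.iso U' (Algebra.linearMap A (Localization U'))).restrictScalars B).toLinearMap ∘ₗ
        (LocalizedModule.mkLinearMap U' A).restrictScalars B :=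
      LinearMap.ext fun a => ((IsLocalizedModule.iso_mk_one U' (Algebra.linearMap A (Localization U')) a)).symm
    rw [heq]
    exact IsLocalizedModule.of_linearEquiv U _ _
  haveI : Module.FinitePresentation B A := Module.FinitePresentation.of_finite_of_finitePresentation B A
  haveI : Module.FinitePresentation (Localization U) (Localization U') :=
    Module.FinitePresentation.of_equiv ((isLocalizedModule_iff_isBaseChange U (Localization U) f).1 inferInstance).equiv
  letI : Module (Localization U) (LocalizedModule U' X) :=
    Module.compHom _ (algebraMap (Localization U) (Localization U'))
  haveI : IsScalarTower (Localization U) (Localization U') (LocalizedModule U' X) :=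
    IsScalarTower.of_algebraMap_smul fun _ _ => rfl
  haveI : IsScalarTower B (Localization U) (LocalizedModule U' X) := IsScalarTower.of_algebraMap_smul fun b x => by
    show algebraMap (Localization U) (Localization U') (algebraMap B (Localization U) b) • x = b • x
    rw [← IsScalarTower.algebraMap_apply, IsScalarTower.algebraMap_apply B A (Localization U'), algebraMap_smul,
      algebraMap_smul]
  haveI := hloc X
  let e : LocalizedModule U X ≃ₗ[Localization U] LocalizedModule U' X :=
    ((isLocalizedModule_iff_isBaseChange U (Localization U) (LocalizedModule.mkLinearMap U X)).1 inferInstance).equiv.symm.trans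
      ((isLocalizedModule_iff_isBaseChange U (Localization U)
        ((LocalizedModule.mkLinearMap U' X).restrictScalars B)).1 inferInstance).equiv
  constructor
  · intro hX
    haveI := hX
    haveI : Module.FinitePresentation (Localization U) (LocalizedModule U' X) :=
      Module.FinitePresentation.trans _ _ (Localization U')
    exact Module.FinitePresentation.of_equiv e.symm
  · intro hX
    haveI := hX
    haveI : Module.FinitePresentation (Localization U) (LocalizedModule U' X) := Module.FinitePresentation.of_equiv e
    exact fp_of_finite_algebra (B := Localization U)

end Groth.Agent.DevissLib
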