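import Groth.Agent.DevissLib.Transfer
import Groth.Agent.FibAssLib.Detect
import Groth.Agent.PureLib.GeomIntegral
import Groth.Agent.CAlgBasics.UnivInj
import Groth.Agent.S1208

/-!
# One step of a complete dévissage at a point of flatness

A map from a free module which is bijective at the generic point of the closed fibre is universally
injective over the base, with cokernel flat wherever the target is.
-/

set_option autoImplicit false
set_option linter.style.haveILetI false
set_option backward.isDefEq.respectTransparency false
set_option backward.isDefEq.respectTransparency.types false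
set_option maxHeartbeats 1000000

universe u

open IsLocalRing TensorProduct

noncomputable section

namespace Groth.Agent.DevissLib

variable {R B : Type u} [CommRing R] [IsLocalRing R] [CommRing B] [Algebra R B] [Algebra.Smooth R B]
  {M : Type u} [AddCommGroup M] [Module B M] [Module R M] [IsScalarTower R B M] [Module.Finite B M]

/-- Primes of fibre associated to a free module lie in the generic point of the closed fibre. -/
theorem le_map_maximalIdeal (h : FlatCA.GeomIrredFibres R B) [((maximalIdeal R).map (algebraMap R B)).IsPrime]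
    [((maximalIdeal R).map (algebraMap R B)).LiesOver (maximalIdeal R)] (r : ℕ)
    (p : Ideal R) [p.IsPrime] (q : Ideal B) [q.IsPrime] [q.LiesOver p]
    (hq : FlatCA.fiberIdeal p q ∈ associatedPrimes (p.Fiber B) (FlatCA.fiberMod p B (Fin r → B))) :
    q ≤ (maximalIdeal R).map (algebraMap R B) := by
  haveI : IsDomain (p.Fiber B) := PureLib.isDomain_tensor_field (geomIntegralFibres_of_smooth h) p.ResidueField
  letI := (Algebra.TensorProduct.includeRight (R := R) (A := p.ResidueField) (B := B)).toRingHom.toAlgebra
  haveI : Module.Free (p.Fiber B) (FlatCA.fiberMod p B (Fin r → B)) :=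
    inferInstanceAs (Module.Free (p.Fiber B) ((p.Fiber B) ⊗[B] (Fin r → B)))
  have hbot : FlatCA.fiberIdeal p q = ⊥ := by
    obtain ⟨hprime, y, hy⟩ := hq
    by_cases hy0 : y = 0
    · exfalso
      apply hprime.ne_top
      rw [hy, hy0, Ideal.eq_top_iff_one]
      exact Ideal.le_radical (by simp)
    · have hc : (⊥ : Submodule (p.Fiber B) (FlatCA.fiberMod p B (Fin r → B))).colon {y} = ⊥ := by
        ext t
        simp [Submodule.mem_colon_singleton, hy0]
      rw [hy, hc]
      exact Ideal.IsPrime.radical (Ideal.isPrime_bot)
  obtain ⟨Q', hle, hQ', hQp⟩ := Ideal.exists_ideal_le_liesOver_of_le (p := p) (q := maximalIdeal R)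
    ((maximalIdeal R).map (algebraMap R B)) (IsLocalRing.le_maximalIdeal (inferInstance : p.IsPrime).ne_top)
  haveI := hQ'
  haveI := hQp
  intro c hc
  refine hle ?_
  have hc0 : CAlgFib.ι (S := B) p c ∈ FlatCA.fiberIdeal p q := Ideal.mem_map_of_mem _ hc
  rw [hbot, Ideal.mem_bot] at hc0
  rw [← (FibAssLib.fiberIdeal_spec p Q').2, Ideal.mem_comap, hc0]
  exact zero_mem _

/-- A surjection onto a flat module meets an extended ideal multiple in that multiple of the kernel. -/
theorem mem_smul_ker {A B' F G : Type u} [CommRing A] [CommRing B'] [Algebra A B'] [AddCommGroup F] [Module B' F]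
    [Module A F] [IsScalarTower A B' F] [AddCommGroup G] [Module B' G] [Module A G] [IsScalarTower A B' G]
    [Module.Flat A G] (I : Ideal A) (g : F →ₗ[B'] G) (hg : Function.Surjective g) {x : F} (hx : g x = 0)
    (hxI : x ∈ I.map (algebraMap A B') • (⊤ : Submodule B' F)) :
    x ∈ I.map (algebraMap A B') • LinearMap.ker g := by
  let K := LinearMap.ker (g.restrictScalars A)
  have hinj : Function.Injective (K.subtype.rTensor (A ⧸ I)) :=
    CAlgBasics.rTensor_injective_of_flat_quotient (f := K.subtype) (g := g.restrictScalars A)
      Subtype.val_injective (LinearMap.exact_subtype_ker_map _) hg (A ⧸ I)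
  rw [← Submodule.restrictScalars_mem A, Ideal.smul_restrictScalars, Submodule.restrictScalars_top] at hxI
  have hxK : (⟨x, hx⟩ : K) ∈ I • (⊤ : Submodule A K) := by
    rw [← Submodule.Quotient.mk_eq_zero]
    apply (TensorProduct.tensorQuotEquivQuotSMul K I).symm.injective
    apply hinj
    rw [map_zero, map_zero, TensorProduct.tensorQuotEquivQuotSMul_symm_mk, LinearMap.rTensor_tmul,
      ← TensorProduct.tensorQuotEquivQuotSMul_symm_mk,
      (Submodule.Quotient.mk_eq_zero _).2 (show K.subtype ⟨x, hx⟩ ∈ _ from hxI), map_zero]
  have h := Submodule.mem_map_of_mem (f := K.subtype) hxK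
  rw [Submodule.map_smul'', Submodule.map_top, Submodule.range_subtype] at h
  rw [← Submodule.restrictScalars_mem A, Ideal.smul_restrictScalars, ← LinearMap.ker_restrictScalars]
  exact h

/-- The step. -/
theorem step (h : FlatCA.GeomIrredFibres R B) [((maximalIdeal R).map (algebraMap R B)).IsPrime]
    (Q : Ideal B) [Q.IsPrime] [Q.LiesOver (maximalIdeal R)] {r : ℕ} (α : (Fin r → B) →ₗ[B] M)
    (hα : Function.Bijective (α.baseChange ((maximalIdeal R).map (algebraMap R B)).ResidueField))
    (hflat : FlatCA.FlatAt R Q M) :
    Function.Injective α ∧ FlatCA.FlatAt R Q (M ⧸ LinearMap.range α) := by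
  classical
  haveI : Module.Flat R B := by
    haveI := projective_of_smooth h
    infer_instance
  let P := (maximalIdeal R).map (algebraMap R B)
  have hPQ : P ≤ Q := Ideal.map_le_iff_le_comap.2 (Q.over_def (maximalIdeal R)).le
  haveI : P.LiesOver (maximalIdeal R) :=
    ⟨le_antisymm Ideal.le_comap_map ((Ideal.comap_mono hPQ).trans (Q.over_def (maximalIdeal R)).ge)⟩
  have hle : Q.primeCompl ≤ P.primeCompl := fun x hx hxP => hx (hPQ hxP)
  let BP := Localization.AtPrime P
  let BQ := Localization.AtPrime Q
  haveI : Module.Flat R (LocalizedModule Q.primeCompl M) := hflat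
  haveI hlocP : ∀ (X : Type u) [AddCommGroup X] [Module B X],
      IsLocalizedModule P.primeCompl (TensorProduct.mk B BP X 1) := fun X _ _ =>
    (isLocalizedModule_iff_isBaseChange P.primeCompl BP _).2 (TensorProduct.isBaseChange B X BP)
  haveI hlocQ : ∀ (X : Type u) [AddCommGroup X] [Module B X],
      IsLocalizedModule Q.primeCompl (TensorProduct.mk B BQ X 1) := fun X _ _ =>
    (isLocalizedModule_iff_isBaseChange Q.primeCompl BQ _).2 (TensorProduct.isBaseChange B X BQ)
  haveI : Module.Flat R (BP ⊗[B] M) :=
    FlatLocus.flat_localized_of_le Q.primeCompl P.primeCompl hle (LocalizedModule.mkLinearMap Q.primeCompl M)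
      (TensorProduct.mk B BP M 1)
  haveI : Module.Flat R (BQ ⊗[B] M) :=
    FlatLocus.flat_localized_of_le Q.primeCompl Q.primeCompl le_rfl (LocalizedModule.mkLinearMap Q.primeCompl M)
      (TensorProduct.mk B BQ M 1)
  haveI : Module.FinitePresentation BQ (LocalizedModule Q.primeCompl M) := S1208.result M Q hflat
  haveI : Module.FinitePresentation BQ (BQ ⊗[B] M) :=
    Module.FinitePresentation.of_equiv (LocalizedModule.equivTensorProduct Q.primeCompl M)
  letI : Algebra BQ BP := IsLocalization.localizationAlgebraOfSubmonoidLe BQ BP Q.primeCompl P.primeCompl hle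
  haveI : IsScalarTower B BQ BP :=
    IsLocalization.localization_isScalarTower_of_submonoid_le BQ BP Q.primeCompl P.primeCompl hle
  haveI : Module.FinitePresentation BP (BP ⊗[BQ] (BQ ⊗[B] M)) := inferInstance
  haveI : Module.FinitePresentation BP (BP ⊗[B] M) :=
    Module.FinitePresentation.of_equiv (TensorProduct.AlgebraTensorModule.cancelBaseChange B BQ BP BP M)
  let αP := α.baseChange BP
  -- surjectivity at the generic point of the fibre
  have hsurj : Function.Surjective αP := by
    have hns : (⟨P, inferInstance⟩ : PrimeSpectrum B) ∉ Module.support B (M ⧸ LinearMap.range α) := fun hs => by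
      haveI : Nontrivial (P.ResidueField ⊗[B] (M ⧸ LinearMap.range α)) :=
        (Module.mem_support_iff_nontrivial_residueField_tensorProduct ⟨P, inferInstance⟩).1 hs
      haveI : Subsingleton (P.ResidueField ⊗[B] (M ⧸ LinearMap.range α)) := subsingleton_of_forall_eq 0 fun x => by
        obtain ⟨y, rfl⟩ := LinearMap.lTensor_surjective P.ResidueField (LinearMap.range α).mkQ_surjective x
        obtain ⟨z, rfl⟩ := hα.2 y
        rw [LinearMap.baseChange_eq_ltensor, ← LinearMap.lTensor_comp_apply, LinearMap.range_mkQ_comp,
          LinearMap.lTensor_zero, LinearMap.zero_apply]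
      exact false_of_nontrivial_of_subsingleton (P.ResidueField ⊗[B] (M ⧸ LinearMap.range α))
    rw [Module.mem_support_iff_of_finite, SetLike.not_le_iff_exists] at hns
    obtain ⟨c, hc, hcP⟩ := hns
    intro y
    obtain ⟨⟨m, s⟩, hm⟩ := IsLocalizedModule.surj P.primeCompl (TensorProduct.mk B BP M 1) y
    obtain ⟨v, hv⟩ : c • m ∈ LinearMap.range α := by
      rw [← Submodule.Quotient.mk_eq_zero, Submodule.Quotient.mk_smul]
      exact Module.mem_annihilator.1 hc _
    have hu : IsUnit (algebraMap B BP (c * s)) :=
      IsLocalization.map_units BP (⟨c * s, P.primeCompl.mul_mem hcP s.2⟩ : P.primeCompl)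
    refine ⟨hu.unit⁻¹ • ((1 : BP) ⊗ₜ[B] v), ?_⟩
    rw [Units.smul_def, map_smul, ← Units.smul_def, inv_smul_eq_iff, LinearMap.baseChange_tmul, hv,
      Units.smul_def, IsUnit.unit_spec, algebraMap_smul, mul_smul, TensorProduct.tmul_smul]
    exact congrArg (c • ·) hm.symm
  -- injectivity by Nakayama
  let J := (maximalIdeal R).map (algebraMap R BP)
  have hJ : J ≤ maximalIdeal BP := by
    rw [show J = P.map (algebraMap B BP) by
      rw [Ideal.map_map, ← IsScalarTower.algebraMap_eq]]
    exact (Localization.AtPrime.map_eq_maximalIdeal (I := P)).le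
  have hinjP : Function.Injective αP := by
    rw [← LinearMap.ker_eq_bot]
    refine Submodule.eq_bot_of_le_smul_of_le_jacobson_bot J _ (Module.FinitePresentation.fg_ker αP hsurj)
      (fun x hx => ?_) (hJ.trans (maximalIdeal_le_jacobson _))
    have hxJ : x ∈ J • (⊤ : Submodule BP (BP ⊗[B] (Fin r → B))) := by
      obtain ⟨⟨v, s⟩, hv⟩ := IsLocalizedModule.surj P.primeCompl (TensorProduct.mk B BP (Fin r → B) 1) x
      have h0 : (1 : BP) ⊗ₜ[B] α v = 0 := by
        rw [← LinearMap.baseChange_tmul]
        show αP (TensorProduct.mk B BP (Fin r → B) 1 v) = 0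
        rw [← hv, Submonoid.smul_def, ← algebraMap_smul BP (s : B) x, map_smul, LinearMap.mem_ker.1 hx, smul_zero]
      obtain ⟨c, hc⟩ := (IsLocalizedModule.eq_zero_iff P.primeCompl (TensorProduct.mk B BP M 1)).1 h0
      have hc0 : algebraMap B P.ResidueField c ≠ 0 := fun e => c.2 (Ideal.algebraMap_residueField_eq_zero.1 e)
      have h1 : ((1 : P.ResidueField) ⊗ₜ[B] v : P.ResidueField ⊗[B] (Fin r → B)) = 0 := by
        apply hα.1
        rw [map_zero, LinearMap.baseChange_tmul]
        refine (smul_eq_zero_iff_right hc0).1 ?_
        rw [algebraMap_smul, ← TensorProduct.tmul_smul, ← Submonoid.smul_def, hc, TensorProduct.tmul_zero]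
      have h2 : ∀ i, v i ∈ P := fun i => by
        have := congrArg (fun t => TensorProduct.piScalarRight B B P.ResidueField (Fin r) t i) h1
        simp only [TensorProduct.piScalarRight_apply, TensorProduct.piScalarRightHom_tmul, map_zero, Pi.zero_apply,
          Algebra.smul_def, mul_one] at this
        exact Ideal.algebraMap_residueField_eq_zero.1 this
      have h3 : (TensorProduct.mk B BP (Fin r → B) 1 v) ∈ J • (⊤ : Submodule BP (BP ⊗[B] (Fin r → B))) := by
        rw [pi_eq_sum_univ' v, map_sum]
        refine sum_mem fun i _ => ?_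
        rw [map_smul, ← algebraMap_smul BP (v i)]
        refine Submodule.smul_mem_smul ?_ Submodule.mem_top
        rw [show J = P.map (algebraMap B BP) by rw [Ideal.map_map, ← IsScalarTower.algebraMap_eq]]
        exact Ideal.mem_map_of_mem _ (h2 i)
      rw [← hv, Submonoid.smul_def, ← algebraMap_smul BP (s : B) x] at h3
      have hu : IsUnit (algebraMap B BP (s : B)) := IsLocalization.map_units BP s
      exact (Submodule.smul_mem_iff_of_isUnit _ hu).1 h3
    exact mem_smul_ker (maximalIdeal R) αP hsurj (LinearMap.mem_ker.1 hx) hxJ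
  -- universal injectivity
  haveI : Module.Flat R (Fin r → B) := by
    haveI := projective_of_smooth h
    haveI : Module.Projective R (Fin r →₀ B) := Module.Projective.of_equiv (finsuppLequivDFinsupp (ι := Fin r) R).symm
    haveI : Module.Projective R (Fin r → B) := Module.Projective.of_equiv (Finsupp.linearEquivFunOnFinite R B (Fin r))
    infer_instance
  let mkF := (TensorProduct.mk B BP (Fin r → B) 1).restrictScalars R
  have hF : FlatCA.UnivInj R mkF := by
    refine FibAssLib.univInj_mk fun p q _ _ _ hq => ?_
    have hqP := le_map_maximalIdeal h r p q hq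
    exact ⟨q.map (algebraMap B BP),
      IsLocalization.isPrime_of_isPrime_disjoint P.primeCompl BP q inferInstance
        (Set.disjoint_left.2 fun a ha hqa => ha (hqP hqa)),
      IsLocalization.comap_map_of_isPrime_disjoint P.primeCompl BP (I := q) inferInstance
        (Set.disjoint_left.2 fun a ha hqa => ha (hqP hqa))⟩
  have huniv : ∀ (X : Type u) [AddCommGroup X] [Module R X],
      Function.Injective ((α.restrictScalars R).rTensor X) := fun X _ _ => by
    have hcomp : ((TensorProduct.mk B BP M 1).restrictScalars R).comp (α.restrictScalars R) =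
        (αP.restrictScalars R).comp mkF := LinearMap.ext fun v => (α.baseChange_tmul (1 : BP) v).symm
    refine Function.Injective.of_comp (f := ((TensorProduct.mk B BP M 1).restrictScalars R).rTensor X) ?_
    rw [← LinearMap.coe_comp, ← LinearMap.rTensor_comp, hcomp, LinearMap.rTensor_comp, LinearMap.coe_comp]
    refine Function.Injective.comp ?_ ((LinearMap.lTensor_inj_iff_rTensor_inj _ _).1 (hF X))
    exact (LinearEquiv.rTensor X ((LinearEquiv.ofBijective αP ⟨hinjP, hsurj⟩).restrictScalars R)).injective
  have hinj : Function.Injective α :=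
    CAlgBasics.injective_of_universallyInjective (f := α.restrictScalars R) huniv
  refine ⟨hinj, ?_⟩
  let αQ := α.baseChange BQ
  let gQ := (LinearMap.range α).mkQ.baseChange BQ
  have hunivQ : CAlgX.UniversallyInjective R (αQ.restrictScalars R) := fun X _ _ => by
    let a₁ := AlgebraTensorModule.assoc R B B BQ (Fin r → B) X
    let a₂ := AlgebraTensorModule.assoc R B B BQ M X
    have key : ∀ w, a₂ ((αQ.restrictScalars R).rTensor X w) =
        (AlgebraTensorModule.map α (LinearMap.id : X →ₗ[R] X)).lTensor BQ (a₁ w) := by
      intro w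
      induction w using TensorProduct.induction_on with
      | zero => simp
      | tmul y z =>
        induction y using TensorProduct.induction_on with
        | zero => simp
        | tmul b v => simp [a₁, a₂, αQ]
        | add y₁ y₂ h₁ h₂ => simp only [TensorProduct.add_tmul, map_add, h₁, h₂]
      | add y₁ y₂ h₁ h₂ => simp only [map_add, h₁, h₂]
    intro w w' hww'
    apply a₁.injective
    refine Module.Flat.lTensor_preserves_injective_linearMap (M := BQ)
      (AlgebraTensorModule.map α (LinearMap.id : X →ₗ[R] X)) ?_ ?_
    · exact huniv X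
    · rw [← key, ← key]
      exact congrArg a₂ hww'
  haveI : Module.Flat R (BQ ⊗[B] (M ⧸ LinearMap.range α)) := by
    refine CAlgBasics.flat_coker_of_injective_rTensor_quotient (f := αQ.restrictScalars R) (g := gQ.restrictScalars R)
      ?_ ?_ fun I _ => hunivQ (R ⧸ I)
    · show Function.Exact (α.lTensor BQ) ((LinearMap.range α).mkQ.lTensor BQ)
      exact lTensor_exact BQ (LinearMap.exact_map_mkQ_range α) (LinearMap.range α).mkQ_surjective
    · exact LinearMap.lTensor_surjective BQ (LinearMap.range α).mkQ_surjective
  exact FlatLocus.flat_localized_of_le Q.primeCompl Q.primeCompl le_rfl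
    (TensorProduct.mk B BQ (M ⧸ LinearMap.range α) 1) (LocalizedModule.mkLinearMap Q.primeCompl (M ⧸ LinearMap.range α))

end Groth.Agent.DevissLib
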