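import Groth.Agent.DevissLib.ExistAux
import Groth.Agent.FibAssLib.Fibre

/-!
# The closed piece of a fibre cut out by an ideal
-/

set_option autoImplicit false
set_option linter.style.haveILetI false
set_option backward.isDefEq.respectTransparency false
set_option backward.isDefEq.respectTransparency.types false
set_option maxHeartbeats 1000000

universe u

open TensorProduct

noncomputable section

namespace Groth.Agent.DevissLib


/-- A closed piece of the fibre carries the local dimension of a support. -/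
theorem exists_fibre_point {R S : Type u} [CommRing R] [CommRing S] [Algebra R S] [Algebra.FiniteType R S]
    (p : Ideal R) [p.IsPrime] (J : Ideal S) (Z : Set (PrimeSpectrum (p.Fiber S)))
    (hJ : ∀ x : PrimeSpectrum (p.Fiber S), FlatCA.fiberIdeal p J ≤ x.asIdeal ↔ x ∈ Z)
    (q : Ideal S) [q.IsPrime] [q.LiesOver p] (x : PrimeSpectrum (p.Fiber S)) (hxq : x.asIdeal = FlatCA.fiberIdeal p q)
    (hx : x ∈ Z) :
    ∃ q0 : Ideal (S ⧸ J), q0.IsPrime ∧ q0.comap (Ideal.Quotient.mk J) = q ∧ q0.LiesOver p ∧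
      ∃ Q0 : PrimeSpectrum (p.Fiber (S ⧸ J)), Q0.asIdeal = FlatCA.fiberIdeal p q0 ∧
        Q0.asIdeal.comap (Algebra.TensorProduct.includeRight : (S ⧸ J) →ₐ[R] p.Fiber (S ⧸ J)).toRingHom = q0 ∧
        FlatMor.localDim (PrimeSpectrum (p.Fiber (S ⧸ J))) Q0 = FlatMor.localDim Z ⟨x, hx⟩ := by
  have hJq : J ≤ q := fun s hs => by
    have h1 := (hJ x).2 hx
    rw [hxq] at h1
    rw [← (FibAssLib.fiberIdeal_spec p q).2]
    exact h1 (Ideal.mem_map_of_mem _ hs)
  let q0 := q.map (Ideal.Quotient.mk J)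
  haveI hq0 : q0.IsPrime := Ideal.map_isPrime_of_surjective Ideal.Quotient.mk_surjective (by rwa [Ideal.mk_ker])
  have hq0c : q0.comap (Ideal.Quotient.mk J) = q := by
    rw [Ideal.comap_map_of_surjective' _ Ideal.Quotient.mk_surjective, Ideal.mk_ker, sup_eq_left.2 hJq]
  haveI hq0p : q0.LiesOver p := ⟨by
    rw [Ideal.under_def, IsScalarTower.algebraMap_eq R S (S ⧸ J), ← Ideal.comap_comap]
    exact (q.over_def p).trans (congrArg (Ideal.comap (algebraMap R S)) hq0c.symm)⟩
  obtain ⟨hQ0p, hQ0c⟩ := FibAssLib.fiberIdeal_spec p q0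
  let Q0 : PrimeSpectrum (p.Fiber (S ⧸ J)) := ⟨FlatCA.fiberIdeal p q0, hQ0p⟩
  let π : p.Fiber S →ₐ[R] p.Fiber (S ⧸ J) :=
    Algebra.TensorProduct.map (AlgHom.id R p.ResidueField) (Ideal.Quotient.mkₐ R J)
  have hπ : Function.Surjective π := fun t => by
    induction t using TensorProduct.induction_on with
    | zero => exact ⟨0, map_zero π⟩
    | tmul c s =>
      obtain ⟨s, rfl⟩ := Ideal.Quotient.mk_surjective s
      exact ⟨c ⊗ₜ[R] s, rfl⟩
    | add u v hu hv =>
      obtain ⟨u, rfl⟩ := hu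
      obtain ⟨v, rfl⟩ := hv
      exact ⟨u + v, map_add π u v⟩
  have hker : RingHom.ker π.toRingHom = FlatCA.fiberIdeal p J := by
    have h := Algebra.TensorProduct.lTensor_ker (A := p.ResidueField) (Ideal.Quotient.mkₐ R J) Ideal.Quotient.mk_surjective
    rw [show RingHom.ker (Ideal.Quotient.mkₐ R J) = J from Ideal.mk_ker] at h
    exact h
  have hemb := PrimeSpectrum.isClosedEmbedding_comap_of_surjective _ π.toRingHom hπ
  have hrange : Set.range (PrimeSpectrum.comap π.toRingHom) = Z := by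
    rw [range_comap_of_surjective _ π.toRingHom hπ]
    ext y
    rw [PrimeSpectrum.mem_zeroLocus, SetLike.coe_subset_coe, hker]
    exact hJ y
  let e := hemb.isEmbedding.toHomeomorph.trans (Homeomorph.setCongr hrange)
  have heQ : e Q0 = ⟨x, hx⟩ := by
    refine Subtype.ext (PrimeSpectrum.ext ?_)
    show Q0.asIdeal.comap π.toRingHom = x.asIdeal
    rw [hxq]
    symm
    refine FibAssLib.eq_fiberIdeal_of_comap p (P := Q0.asIdeal.comap π.toRingHom) ?_
    rw [← hq0c, ← hQ0c, Ideal.comap_comap, Ideal.comap_comap]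
    rfl
  exact ⟨q0, hq0, hq0c, hq0p, Q0, rfl, hQ0c, by rw [← heQ, localDim_homeomorph e]⟩

end Groth.Agent.DevissLib
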