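import Groth.Agent.GeomIrred.Connected
import Groth.Agent.ArtGrpLib.Component
import Groth.Agent.DevissLib.RelAlgClosed
import Mathlib

/-!
# Geometrically connected pieces of fibres through purely transcendental points
-/

set_option autoImplicit false
set_option linter.style.haveILetI false
set_option backward.isDefEq.respectTransparency false
set_option backward.isDefEq.respectTransparency.types false
set_option maxHeartbeats 1000000

universe u

open CategoryTheory CategoryTheory.Limits AlgebraicGeometry TensorProduct Topology

noncomputable section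

namespace Groth.Agent.DevissLib

open GeomIrred in
/-- A connected scheme with a field-valued point without new separable elements is geometrically connected. -/
theorem geometricallyConnected_of_field_point {k K : Type u} [Field k] [Field K] [Algebra k K]
    (hK : separableClosure k K = ⊥) {X : Scheme.{u}} [ConnectedSpace X] (f : X ⟶ Spec (CommRingCat.of k))
    (j : Spec (CommRingCat.of K) ⟶ X) (hj : j ≫ f = Spec.map (CommRingCat.ofHom (algebraMap k K))) :
    GeometricallyConnected f := by
  refine geometricallyConnected_of_connected_subset f (j (IsLocalRing.closedPoint K)) fun L _ _ _ _ =>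
    ⟨_, Set.Subsingleton.isPreconnected ?_, subset_rfl⟩
  let r : pullback (Spec.map (CommRingCat.ofHom (algebraMap k K))) (Spec.map (CommRingCat.ofHom (algebraMap k L))) ⟶
      bcs f L :=
    pullback.map _ _ _ _ j (𝟙 _) (𝟙 _) (by rw [Category.comp_id, hj]) (by simp)
  haveI := subsingleton_primeSpectrum_tensor hK L
  haveI : Subsingleton ↥(Spec (CommRingCat.of (K ⊗[k] L))) := ‹Subsingleton (PrimeSpectrum (K ⊗[k] L))›
  haveI : Subsingleton ↥(pullback (Spec.map (CommRingCat.ofHom (algebraMap k K)))
      (Spec.map (CommRingCat.ofHom (algebraMap k L)))) :=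
    (pullbackSpecIso k K L).hom.homeomorph.injective.subsingleton
  have hmem : ∀ z : bcs f L, pullback.fst f _ z = j (IsLocalRing.closedPoint K) → z ∈ Set.range r := by
    intro z hz
    rw [Scheme.Pullback.range_map]
    exact ⟨⟨IsLocalRing.closedPoint K, hz.symm⟩, ⟨pullback.snd f _ z, rfl⟩⟩
  intro z hz z' hz'
  obtain ⟨w, rfl⟩ := hmem z hz
  obtain ⟨w', rfl⟩ := hmem z' hz'
  rw [Subsingleton.elim w w']

/-- The geometrically connected open of the fibre through a prime without new separable residue elements. -/
theorem exists_open_geomConn {R D : Type u} [CommRing R] [CommRing D] [Algebra R D] [Algebra.FiniteType R D]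
    (p : Ideal R) [p.IsPrime] (P : Ideal D) [P.IsPrime] [P.LiesOver p]
    (h : letI := (Ideal.ResidueField.mapₐ p P (Algebra.ofId R D) (P.over_def p)).toRingHom.toAlgebra
      separableClosure p.ResidueField P.ResidueField = ⊥) :
    ∃ T : ((Spec.map (CommRingCat.ofHom (algebraMap R D))).fiber ⟨p, inferInstance⟩).Opens,
      GeometricallyConnected (T.ι ≫
        (Spec.map (CommRingCat.ofHom (algebraMap R D))).fiberToSpecResidueField ⟨p, inferInstance⟩) ∧
      (⟨P, inferInstance⟩ : PrimeSpectrum D) ∈
        (Spec.map (CommRingCat.ofHom (algebraMap R D))).fiberι ⟨p, inferInstance⟩ '' (T : Set _) := by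
  letI := (Ideal.ResidueField.mapₐ p P (Algebra.ofId R D) (P.over_def p)).toRingHom.toAlgebra
  let f := Spec.map (CommRingCat.ofHom (algebraMap R D))
  let s : Spec (CommRingCat.of R) := ⟨p, inferInstance⟩
  let e := Spec.map (Scheme.Spec.residueFieldIso (CommRingCat.of R) s).inv
  have he : e ≫ Spec.map (CommRingCat.ofHom (algebraMap R p.ResidueField)) =
      (Spec (CommRingCat.of R)).fromSpecResidueField s :=
    Scheme.Spec.map_residueFieldIso_inv_eq_fromSpecResidueField (CommRingCat.of R) s
  haveI : IsIso e := inferInstance
  let j : Spec (CommRingCat.of P.ResidueField) ⟶ f.fiber s :=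
    pullback.lift (Spec.map (CommRingCat.ofHom (algebraMap D P.ResidueField)))
      (Spec.map (CommRingCat.ofHom (algebraMap p.ResidueField P.ResidueField)) ≫ inv e) (by
        rw [Category.assoc, ← he, IsIso.inv_hom_id_assoc, ← Spec.map_comp, ← Spec.map_comp]
        congr 1
        ext a
        exact ((Ideal.ResidueField.mapₐ p P (Algebra.ofId R D) (P.over_def p)).commutes a).symm)
  haveI : LocallyOfFiniteType f :=
    (HasRingHomProperty.Spec_iff (P := @LocallyOfFiniteType)).2 (RingHom.finiteType_algebraMap.2 inferInstance)
  haveI : LocallyOfFiniteType (f.fiberToSpecResidueField s) :=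
    MorphismProperty.pullback_snd (P := @LocallyOfFiniteType) _ _ ‹_›
  haveI : IsLocallyNoetherian (f.fiber s) := LocallyOfFiniteType.isLocallyNoetherian (f.fiberToSpecResidueField s)
  let x := j (IsLocalRing.closedPoint P.ResidueField)
  let T : (f.fiber s).Opens := ⟨connectedComponent x, ArtGrpLib.isOpen_connectedComponent x⟩
  haveI : ConnectedSpace (T : Scheme) := isConnected_iff_connectedSpace.1 isConnected_connectedComponent
  have hrange : Set.range j ⊆ Set.range T.ι := by
    rw [Scheme.Opens.range_ι]
    rintro _ ⟨z, rfl⟩
    rw [Subsingleton.elim (α := PrimeSpectrum P.ResidueField) z (IsLocalRing.closedPoint P.ResidueField)]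
    exact mem_connectedComponent
  refine ⟨T, ?_, x, mem_connectedComponent, ?_⟩
  · let g := T.ι ≫ f.fiberToSpecResidueField s ≫ e
    haveI hg : GeometricallyConnected g := by
      refine geometricallyConnected_of_field_point h g (IsOpenImmersion.lift T.ι j hrange) ?_
      rw [← Category.assoc, IsOpenImmersion.lift_fac]
      show j ≫ pullback.snd _ _ ≫ e = _
      rw [pullback.lift_snd_assoc, Category.assoc, IsIso.inv_hom_id, Category.comp_id]
    have hge : T.ι ≫ f.fiberToSpecResidueField s = g ≫ inv e := by simp [g]
    rw [hge]
    haveI : MorphismProperty.RespectsIso @GeometricallyConnected :=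
      GeometricallyConnected.eq_geometrically ▸ inferInstance
    exact MorphismProperty.RespectsIso.postcomp (P := @GeometricallyConnected) (inv e) g hg
  · show (j ≫ f.fiberι s) (IsLocalRing.closedPoint P.ResidueField) = _
    rw [show j ≫ f.fiberι s = Spec.map (CommRingCat.ofHom (algebraMap D P.ResidueField)) from pullback.lift_fst _ _ _]
    refine PrimeSpectrum.ext ?_
    show (IsLocalRing.maximalIdeal P.ResidueField).comap (algebraMap D P.ResidueField) = P
    rw [IsLocalRing.maximalIdeal_eq_bot, ← RingHom.ker_eq_comap_bot, Ideal.ker_algebraMap_residueField]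

end Groth.Agent.DevissLib
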