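import Groth.Prelude.Def_FlatCA
import Groth.Agent.ASp.PropDescend
import Groth.Agent.S1356
import Groth.Agent.Eta.Sch
import Groth.Agent.SmoothWeil.Local
import Groth.Agent.DevissLib.CompConn
import Groth.Agent.DevissLib.OpenIrred
import Mathlib

/-!
# Smooth algebras with geometrically irreducible fibres near a purely transcendental point
-/

set_option autoImplicit false
set_option linter.style.haveILetI false
set_option backward.isDefEq.respectTransparency false
set_option backward.isDefEq.respectTransparency.types false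
set_option maxHeartbeats 2000000

universe u

open CategoryTheory CategoryTheory.Limits AlgebraicGeometry TensorProduct

noncomputable section

namespace Groth.Agent.DevissLib

attribute [local instance] Algebra.TensorProduct.rightAlgebra

theorem exists_geomIrred_nhd {R D : Type u} [CommRing R] [CommRing D] [Algebra R D] [Algebra.Smooth R D]
    (p : Ideal R) [p.IsPrime] (P : Ideal D) [P.IsPrime] [P.LiesOver p]
    (h : letI := (Ideal.ResidueField.mapₐ p P (Algebra.ofId R D) (P.over_def p)).toRingHom.toAlgebra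
      separableClosure p.ResidueField P.ResidueField = ⊥) :
    ∃ (R' D' : Type u) (_ : CommRing R') (_ : CommRing D') (_ : Algebra R R') (_ : Algebra D D') (_ : Algebra R' D')
      (_ : Algebra R D') (_ : IsScalarTower R R' D') (_ : IsScalarTower R D D')
      (p' : Ideal R') (y : Ideal D') (_ : p'.IsPrime) (_ : y.IsPrime),
      FlatCA.IsEtaleNhd R R' p p' ∧ FlatCA.IsEtaleNhd D D' P y ∧ y.LiesOver p' ∧
      FlatCA.GeomIrredFibres R' D' ∧ Algebra.Smooth R' D' := by
  let f := Spec.map (CommRingCat.ofHom (algebraMap R D))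
  let s : Spec (CommRingCat.of R) := ⟨p, inferInstance⟩
  haveI : Smooth f := (HasRingHomProperty.Spec_iff (P := @Smooth)).2 (RingHom.smooth_algebraMap.2 inferInstance)
  haveI : GeometricallyReduced f := ⟨fun K _ y Z fst snd sq => by
    haveI : Smooth snd := MorphismProperty.of_isPullback sq inferInstance
    exact ASp.isReduced_of_smooth snd⟩
  obtain ⟨T, hT, ⟨x, hxT, hx⟩⟩ := exists_open_geomConn p P h
  obtain ⟨S', g, s', hS', hnb, V, -, hV, hpts⟩ := S1356.result f s T hT
  haveI := hnb.etale
  -- the base ring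
  let A := Γ(S', ⊤)
  let φ : CommRingCat.of R ⟶ A := Spec.preimage (S'.isoSpec.inv ≫ g)
  letI : Algebra R A := φ.hom.toAlgebra
  have hφ : Spec.map (CommRingCat.ofHom (algebraMap R A)) = S'.isoSpec.inv ≫ g := Spec.map_preimage _
  haveI : Etale (Spec.map (CommRingCat.ofHom (algebraMap R A))) := by
    rw [hφ]
    exact MorphismProperty.comp_mem _ _ _ inferInstance hnb.etale
  haveI : Algebra.Etale R A :=
    RingHom.etale_algebraMap.1 ((HasRingHomProperty.Spec_iff (P := @Etale)).1 ‹Etale (Spec.map (CommRingCat.ofHom (algebraMap R A)))›)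
  let u : ↥(Spec A) := S'.isoSpec.hom s'
  have hus : S'.isoSpec.inv u = s' := by simp [u]
  have hu : PrimeSpectrum.comap (algebraMap R A) u = s := by
    show Spec.map (CommRingCat.ofHom (algebraMap R A)) u = s
    rw [hφ, Scheme.Hom.comp_apply]
    exact (congrArg g hus).trans hnb.base_eq
  let p₁ : Ideal A := u.asIdeal
  haveI hp₁ : p₁.IsPrime := u.isPrime
  haveI : p₁.LiesOver p := ⟨(congrArg PrimeSpectrum.asIdeal hu).symm⟩
  have hres : Function.Bijective (Ideal.ResidueField.mapₐ p p₁ (Algebra.ofId R A) (p₁.over_def p)) := by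
    have hb : Function.Bijective ((Spec.map (CommRingCat.ofHom (algebraMap R A))).residueFieldMap u) := by
      rw [hφ, Scheme.residueFieldMap_comp]
      refine (ConcreteCategory.bijective_of_isIso (S'.isoSpec.inv.residueFieldMap u)).comp ?_
      have aux : ∀ t, t = s' → Function.Bijective (g.residueFieldMap t) := fun t ht => ht ▸ hnb.residue_bijective
      exact aux _ hus
    have hb' := (EtaPt.FieldEndo.residueFieldMap_bijective_iff (algebraMap R A) u).1 hb
    have key : ∀ (I : Ideal R) [I.IsPrime] (e : I = u.asIdeal.comap (algebraMap R A)),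
        Function.Bijective (Ideal.ResidueField.map I u.asIdeal (algebraMap R A) e) := by
      intro I _ e
      subst e
      exact hb'
    exact key p (p₁.over_def p)
  -- the point over it
  let Y := ((Ideal.fiberIsoOfBijectiveResidueField hres).symm ⟨P, inferInstance, inferInstance⟩)
  haveI : Y.1.IsPrime := Y.2.1
  haveI : Y.1.LiesOver p₁ := Y.2.2
  have hYc : Y.1.comap (RingHomClass.toRingHom (Algebra.TensorProduct.includeRight (R := R) (A := A) (B := D))) = P :=
    Ideal.comap_fiberIsoOfBijectiveResidueField_symm hres _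
  let yY : Spec (CommRingCat.of (A ⊗[R] D)) := ⟨Y.1, inferInstance⟩
  let a₁ := Spec.map (CommRingCat.ofHom (Algebra.TensorProduct.includeRight (R := R) (A := A) (B := D)).toRingHom)
  let a₂ := Spec.map (CommRingCat.ofHom (Algebra.TensorProduct.includeLeftRingHom (R := R) (A := A) (B := D)))
  have sq₀ : IsPullback a₁ a₂ f (Spec.map (CommRingCat.ofHom (algebraMap R A))) :=
    (isPullback_SpecMap_of_isPushout _ _ _ _ (CommRingCat.isPushout_tensorProduct R A D)).flip
  have sq : IsPullback a₁ (a₂ ≫ S'.isoSpec.inv) f g :=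
    sq₀.of_iso (Iso.refl _) (Iso.refl _) S'.isoSpec.symm (Iso.refl _) (by simp) (by simp) (by simp) (by simp [hφ])
  let ι := sq.isoPullback
  have hι₁ : ι.hom ≫ pullback.fst f g = a₁ := sq.isoPullback_hom_fst
  have hι₂ : ι.hom ≫ pullback.snd f g = a₂ ≫ S'.isoSpec.inv := sq.isoPullback_hom_snd
  have hyV : ι.hom yY ∈ V := by
    refine (hpts _ ?_).2 ⟨x, hxT, ?_⟩
    · rw [← Scheme.Hom.comp_apply, hι₂, Scheme.Hom.comp_apply]
      exact (congrArg S'.isoSpec.inv (show a₂ yY = u from PrimeSpectrum.ext ((Y.1.over_def p₁).symm))).trans hus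
    · rw [hx, ← Scheme.Hom.comp_apply, hι₁]
      exact PrimeSpectrum.ext hYc.symm
  obtain ⟨_, ⟨g₀, rfl⟩, hg₀, hg₀V⟩ := PrimeSpectrum.isTopologicalBasis_basic_opens.exists_subset_of_mem_open
    (show yY ∈ ι.hom ⁻¹' (V : Set _) from hyV) (V.isOpen.preimage ι.hom.continuous)
  haveI : Module.Flat R D := inferInstance
  obtain ⟨_, ⟨a, rfl⟩, ha, hasub⟩ := PrimeSpectrum.isTopologicalBasis_basic_opens.exists_subset_of_mem_open
    (show u ∈ PrimeSpectrum.comap (algebraMap A (A ⊗[R] D)) '' (PrimeSpectrum.basicOpen g₀ : Set _) from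
      ⟨yY, hg₀, PrimeSpectrum.ext ((Y.1.over_def p₁).symm)⟩)
    ((PrimeSpectrum.isOpenMap_comap_of_hasGoingDown_of_finitePresentation (R := A) (S := A ⊗[R] D)) _
      (PrimeSpectrum.basicOpen g₀).2)
  -- the rings
  let R' := Localization.Away a
  let g₁ : A ⊗[R] D := g₀ * algebraMap A (A ⊗[R] D) a
  let D' := Localization.Away g₁
  letI : Algebra R' D' := (IsLocalization.Away.lift (S := R') a (g := algebraMap A D')
    (isUnit_of_dvd_unit ((IsScalarTower.algebraMap_apply A (A ⊗[R] D) D' a).symm ▸ map_dvd _ (dvd_mul_left _ g₀))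
      (IsLocalization.Away.algebraMap_isUnit g₁))).toAlgebra
  haveI : IsScalarTower A R' D' := IsScalarTower.of_algebraMap_eq fun z => (IsLocalization.Away.lift_eq a _ z).symm
  haveI : IsScalarTower R R' D' := IsScalarTower.of_algebraMap_eq fun z => by
    rw [IsScalarTower.algebraMap_apply R A D', IsScalarTower.algebraMap_apply A R' D', ← IsScalarTower.algebraMap_apply R A R']
  haveI : IsScalarTower D (A ⊗[R] D) D' := inferInstance
  haveI : IsScalarTower R D D' := IsScalarTower.of_algebraMap_eq fun z => by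
    rw [IsScalarTower.algebraMap_apply D (A ⊗[R] D) D', ← IsScalarTower.algebraMap_apply R D (A ⊗[R] D),
      ← IsScalarTower.algebraMap_apply R (A ⊗[R] D) D']
  haveI : Algebra.Etale D (A ⊗[R] D) := Algebra.Etale.of_equiv (Algebra.TensorProduct.commRight R D A)
  haveI : Algebra.Etale (A ⊗[R] D) D' := Algebra.Etale.of_isLocalizationAway g₁
  haveI : Algebra.Etale D D' := Algebra.Etale.comp D (A ⊗[R] D) D'
  haveI : Algebra.Etale A R' := Algebra.Etale.of_isLocalizationAway a
  haveI : Algebra.Etale R R' := Algebra.Etale.comp R A R'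
  haveI : Algebra.Smooth R D' := Algebra.Smooth.comp R D D'
  haveI : Algebra.Smooth R' D' := by
    haveI : Algebra.Smooth A D' := Algebra.Smooth.comp A (A ⊗[R] D) D'
    haveI : Algebra.FormallySmooth R' D' := Algebra.FormallySmooth.localization_base (R := A) (Submonoid.powers a)
    haveI : Algebra.FinitePresentation R' D' := Algebra.FinitePresentation.of_restrict_scalars_finitePresentation A R' D'
    exact ⟨inferInstance, inferInstance⟩
  -- the primes
  have hg₁ : g₁ ∉ Y.1 := fun hm => (Y.2.1.mem_or_mem hm).elim hg₀ fun hm' =>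
    ha ((Y.1.over_def p₁).ge hm')
  have hap : Disjoint (Submonoid.powers a : Set A) p₁ := (Ideal.disjoint_powers_iff_notMem a hp₁.isRadical).2 ha
  have hgY : Disjoint (Submonoid.powers g₁ : Set (A ⊗[R] D)) Y.1 :=
    (Ideal.disjoint_powers_iff_notMem g₁ Y.2.1.isRadical).2 hg₁
  let p' : Ideal R' := p₁.map (algebraMap A R')
  let y : Ideal D' := Y.1.map (algebraMap (A ⊗[R] D) D')
  haveI hp'p : p'.IsPrime := IsLocalization.isPrime_of_isPrime_disjoint (Submonoid.powers a) _ p₁ inferInstance hap
  haveI hyp : y.IsPrime := IsLocalization.isPrime_of_isPrime_disjoint (Submonoid.powers g₁) _ Y.1 inferInstance hgY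
  have hp'c : p'.comap (algebraMap A R') = p₁ := IsLocalization.comap_map_of_isPrime_disjoint (Submonoid.powers a) R' ‹_› hap
  have hyc : y.comap (algebraMap (A ⊗[R] D) D') = Y.1 :=
    IsLocalization.comap_map_of_isPrime_disjoint (Submonoid.powers g₁) D' ‹_› hgY
  haveI hp'o : p'.LiesOver p := ⟨by
    rw [Ideal.under_def, IsScalarTower.algebraMap_eq R A R', ← Ideal.comap_comap, hp'c]
    exact p₁.over_def p⟩
  haveI hyP : y.LiesOver P := ⟨by
    rw [Ideal.under_def, IsScalarTower.algebraMap_eq D (A ⊗[R] D) D', ← Ideal.comap_comap, hyc]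
    exact hYc.symm⟩
  haveI hyp' : y.LiesOver p' := ⟨by
    have h1 : (y.comap (algebraMap R' D')).comap (algebraMap A R') = p₁ := by
      rw [Ideal.comap_comap, ← IsScalarTower.algebraMap_eq, IsScalarTower.algebraMap_eq A (A ⊗[R] D) D',
        ← Ideal.comap_comap, hyc]
      exact (Y.1.over_def p₁).symm
    have h2 := congrArg (Ideal.map (algebraMap A R')) h1
    rw [IsLocalization.map_comap (Submonoid.powers a) R'] at h2
    exact h2.symm⟩
  -- every residue at `p₁` is a fraction from the base
  have hfracA : ∀ z : A, ∃ c b : R, c ∉ p ∧ algebraMap R A c * z - algebraMap R A b ∈ p₁ := by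
    intro z
    obtain ⟨w, hw⟩ := hres.2 (algebraMap A p₁.ResidueField z)
    obtain ⟨b, c, hc, rfl⟩ := IsFractionRing.div_surjective (A := R ⧸ p) w
    obtain ⟨b, rfl⟩ := Ideal.Quotient.mk_surjective b
    obtain ⟨c, rfl⟩ := Ideal.Quotient.mk_surjective c
    have hcp : c ∉ p := fun hm => (nonZeroDivisors.ne_zero hc) (Ideal.Quotient.eq_zero_iff_mem.2 hm)
    refine ⟨c, b, hcp, ?_⟩
    rw [← Ideal.algebraMap_residueField_eq_zero, map_sub, map_mul, ← hw, sub_eq_zero, map_div₀,
      ← IsScalarTower.algebraMap_apply R A p₁.ResidueField, ← IsScalarTower.algebraMap_apply R A p₁.ResidueField]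
    have hmk : ∀ t : R, algebraMap (R ⧸ p) p.ResidueField (Ideal.Quotient.mk p t) = algebraMap R p.ResidueField t :=
      fun _ => rfl
    rw [hmk, hmk, AlgHom.commutes, AlgHom.commutes, mul_div_cancel₀]
    intro h0
    rw [IsScalarTower.algebraMap_apply R A p₁.ResidueField, Ideal.algebraMap_residueField_eq_zero] at h0
    exact hcp ((p₁.over_def p).ge h0)
  refine ⟨R', D', inferInstance, inferInstance, inferInstance, inferInstance, inferInstance, inferInstance, inferInstance,
    inferInstance, p', y, hp'p, hyp, ⟨inferInstance, hp'o, ?_⟩, ⟨inferInstance, hyP, ?_⟩, hyp', ?_, inferInstance⟩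
  · refine residue_bijective_of_frac p p' fun z => ?_
    obtain ⟨z, ⟨_, k, rfl⟩, rfl⟩ := IsLocalization.exists_mk'_eq (Submonoid.powers a) z
    obtain ⟨c, b, hc, hcb⟩ := hfracA z
    obtain ⟨c', b', hc', hcb'⟩ := hfracA (a ^ k)
    have hb' : b' ∉ p := fun hm => by
      have h1 : algebraMap R A c' * a ^ k ∈ p₁ := by
        have := p₁.add_mem hcb' ((p₁.over_def p).le hm)
        rwa [sub_add_cancel] at this
      exact (hp₁.mem_or_mem h1).elim (fun hh => hc' ((p₁.over_def p).ge hh)) fun hh =>
        ha (hp₁.mem_of_pow_mem k hh)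
    refine ⟨c * b', c' * b, p.primeCompl.mul_mem hc hb', ?_⟩
    have hu : IsUnit (algebraMap A R' (a ^ k)) :=
      IsLocalization.map_units R' (⟨a ^ k, k, rfl⟩ : Submonoid.powers a)
    refine (Ideal.unit_mul_mem_iff_mem p' hu).1 ?_
    rw [mul_sub, mul_left_comm, IsLocalization.mk'_spec'_mk, IsScalarTower.algebraMap_apply R A R' (c * b'),
      IsScalarTower.algebraMap_apply R A R' (c' * b), ← map_mul, ← map_mul, ← map_sub]
    refine Ideal.mem_map_of_mem _ ?_
    rw [show algebraMap R A (c * b') * z - a ^ k * algebraMap R A (c' * b) =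
      algebraMap R A b' * (algebraMap R A c * z - algebraMap R A b) -
        algebraMap R A b * (algebraMap R A c' * a ^ k - algebraMap R A b') by rw [map_mul, map_mul]; ring]
    exact p₁.sub_mem (p₁.mul_mem_left _ hcb) (p₁.mul_mem_left _ hcb')
  · -- residue field at the point of `D'`
    have hfracT : ∀ z : A ⊗[R] D, ∃ c b : D, c ∉ P ∧
        algebraMap D (A ⊗[R] D) c * z - algebraMap D (A ⊗[R] D) b ∈ Y.1 := by
      intro z
      induction z using TensorProduct.induction_on with
      | zero => exact ⟨1, 0, P.one_notMem, by simp⟩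
      | tmul α d =>
        obtain ⟨c, b, hc, hcb⟩ := hfracA α
        refine ⟨algebraMap R D c, algebraMap R D b * d, fun hm => hc ((P.over_def p).ge hm), ?_⟩
        rw [map_mul, ← IsScalarTower.algebraMap_apply R D, ← IsScalarTower.algebraMap_apply R D,
          show (α ⊗ₜ[R] d : A ⊗[R] D) = algebraMap A (A ⊗[R] D) α * algebraMap D (A ⊗[R] D) d by
            show _ = (α ⊗ₜ[R] (1 : D)) * ((1 : A) ⊗ₜ[R] d)
            rw [Algebra.TensorProduct.tmul_mul_tmul, mul_one, one_mul],
          IsScalarTower.algebraMap_apply R A (A ⊗[R] D) c, IsScalarTower.algebraMap_apply R A (A ⊗[R] D) b,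
          ← mul_assoc, ← map_mul, ← sub_mul, ← map_sub]
        exact Y.1.mul_mem_right _ ((Y.1.over_def p₁).le hcb)
      | add z z' hz hz' =>
        obtain ⟨c, b, hc, hcb⟩ := hz
        obtain ⟨c', b', hc', hcb'⟩ := hz'
        refine ⟨c * c', c' * b + c * b', P.primeCompl.mul_mem hc hc', ?_⟩
        rw [map_mul, map_add, map_mul, map_mul,
          show algebraMap D (A ⊗[R] D) c * algebraMap D _ c' * (z + z') -
              (algebraMap D _ c' * algebraMap D _ b + algebraMap D _ c * algebraMap D _ b') =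
            algebraMap D _ c' * (algebraMap D _ c * z - algebraMap D _ b) +
              algebraMap D _ c * (algebraMap D _ c' * z' - algebraMap D _ b') by ring]
        exact Y.1.add_mem (Y.1.mul_mem_left _ hcb) (Y.1.mul_mem_left _ hcb')
    refine residue_bijective_of_frac P y fun z => ?_
    obtain ⟨z, ⟨_, k, rfl⟩, rfl⟩ := IsLocalization.exists_mk'_eq (Submonoid.powers g₁) z
    obtain ⟨c, b, hc, hcb⟩ := hfracT z
    obtain ⟨c', b', hc', hcb'⟩ := hfracT (g₁ ^ k)
    have hb' : b' ∉ P := fun hm => by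
      have h1 : algebraMap D (A ⊗[R] D) c' * g₁ ^ k ∈ Y.1 := by
        have := Y.1.add_mem hcb' (show algebraMap D (A ⊗[R] D) b' ∈ Y.1 from hYc.ge hm)
        rwa [sub_add_cancel] at this
      exact (Y.2.1.mem_or_mem h1).elim (fun hh => hc' (hYc.le hh)) fun hh => hg₁ (Y.2.1.mem_of_pow_mem k hh)
    refine ⟨c * b', c' * b, P.primeCompl.mul_mem hc hb', ?_⟩
    have hu : IsUnit (algebraMap (A ⊗[R] D) D' (g₁ ^ k)) :=
      IsLocalization.map_units D' (⟨g₁ ^ k, k, rfl⟩ : Submonoid.powers g₁)
    refine (Ideal.unit_mul_mem_iff_mem y hu).1 ?_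
    rw [mul_sub, mul_left_comm, IsLocalization.mk'_spec'_mk, IsScalarTower.algebraMap_apply D (A ⊗[R] D) D' (c * b'),
      IsScalarTower.algebraMap_apply D (A ⊗[R] D) D' (c' * b), ← map_mul, ← map_mul, ← map_sub]
    refine Ideal.mem_map_of_mem _ ?_
    rw [show algebraMap D (A ⊗[R] D) (c * b') * z - g₁ ^ k * algebraMap D (A ⊗[R] D) (c' * b) =
      algebraMap D (A ⊗[R] D) b' * (algebraMap D _ c * z - algebraMap D _ b) -
        algebraMap D (A ⊗[R] D) b * (algebraMap D _ c' * g₁ ^ k - algebraMap D _ b') by rw [map_mul, map_mul]; ring]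
    exact Y.1.sub_mem (Y.1.mul_mem_left _ hcb) (Y.1.mul_mem_left _ hcb')
  -- geometric irreducibility
  haveI : Smooth (V.ι ≫ pullback.snd f g) :=
    MorphismProperty.comp_mem _ _ _ inferInstance (MorphismProperty.pullback_snd (P := @Smooth) _ _ inferInstance)
  haveI := hV
  haveI : GeometricallyIrreducible (V.ι ≫ pullback.snd f g) :=
    SmoothWeil.geometricallyIrreducible_of_connected_geomFibres _ fun t =>
      GeometricallyConnected.geometrically_connectedSpace (f := V.ι ≫ pullback.snd f g) _ _ _ (IsPullback.of_hasPullback _ _)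
  let w := Spec.map (CommRingCat.ofHom (algebraMap R' D'))
  let i₁ := Spec.map (CommRingCat.ofHom (algebraMap A R'))
  let j₁ := Spec.map (CommRingCat.ofHom (algebraMap (A ⊗[R] D) D'))
  have hi₁r : ∀ v, i₁ v ∈ PrimeSpectrum.basicOpen a := fun v => by
    have := (PrimeSpectrum.localization_away_comap_range (S := R') a).le ⟨v, rfl⟩
    exact this
  haveI : IsOpenImmersion i₁ := IsOpenImmersion.of_isLocalization a
  haveI : IsOpenImmersion j₁ := IsOpenImmersion.of_isLocalization g₁
  have hw : w ≫ i₁ = j₁ ≫ a₂ := by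
    simp only [w, i₁, j₁, a₂, ← Spec.map_comp, ← CommRingCat.ofHom_comp]
    congr 2
    ext z
    exact (IsScalarTower.algebraMap_apply A R' D' z).symm.trans (IsScalarTower.algebraMap_apply A (A ⊗[R] D) D' z)
  haveI : Surjective w := ⟨fun v => by
    obtain ⟨q, hq, hqv⟩ := hasub (hi₁r v)
    have hqa : algebraMap A (A ⊗[R] D) a ∉ q.asIdeal := fun hm =>
      hi₁r v ((congrArg PrimeSpectrum.asIdeal hqv).le hm)
    obtain ⟨z, hz⟩ := (PrimeSpectrum.localization_away_comap_range (S := D') g₁).ge
      (show q ∈ PrimeSpectrum.basicOpen g₁ from fun hm => (q.isPrime.mem_or_mem hm).elim hq hqa)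
    refine ⟨z, i₁.isOpenEmbedding.injective ?_⟩
    rw [← Scheme.Hom.comp_apply, hw, Scheme.Hom.comp_apply, show j₁ z = q from hz]
    exact hqv⟩
  have hrange : Set.range (j₁ ≫ ι.hom) ⊆ Set.range V.ι := by
    rw [Scheme.Opens.range_ι]
    rintro _ ⟨z, rfl⟩
    rw [Scheme.Hom.comp_apply]
    refine hg₀V ?_
    have h1 : j₁ z ∈ PrimeSpectrum.basicOpen g₁ := (PrimeSpectrum.localization_away_comap_range (S := D') g₁).le ⟨z, rfl⟩
    exact fun hm => h1 ((j₁ z).asIdeal.mul_mem_right _ hm)
  refine geometricallyIrreducible_of_open (V.ι ≫ pullback.snd f g) (IsOpenImmersion.lift V.ι (j₁ ≫ ι.hom) hrange)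
    (i₁ ≫ S'.isoSpec.inv) w ?_
  rw [← Category.assoc (IsOpenImmersion.lift _ _ _), IsOpenImmersion.lift_fac, Category.assoc, hι₂, ← Category.assoc w,
    hw, Category.assoc]

end Groth.Agent.DevissLib
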