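import Groth.Agent.DevissLib.Coord
import Groth.Agent.DevissLib.SpreadIrred
import Groth.Agent.DevissLib.ExistAux
import Groth.Agent.DevissLib.Transfer
import Groth.Agent.FibAssLib.Fibre
import Groth.Agent.S1276
import Groth.Agent.DevissLib.ExistPoint

/-!
# Existence of elementary dévissages
-/

set_option autoImplicit false
set_option linter.style.haveILetI false
set_option backward.isDefEq.respectTransparency false
set_option backward.isDefEq.respectTransparency.types false
set_option maxHeartbeats 4000000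

universe u

open TensorProduct

noncomputable section

namespace Groth.Agent.DevissLib

attribute [local instance] Algebra.TensorProduct.rightAlgebra

/-- Independence modulo a contraction. -/
theorem independent_of_comap {A T C : Type u} [CommRing A] [CommRing T] [CommRing C] [Algebra A T] [Algebra A C] [Algebra T C]
    [IsScalarTower A T C] (p : Ideal A) (P : Ideal T) [P.LiesOver p] (q0 : Ideal C) [q0.LiesOver p] [q0.LiesOver P]
    {ι : Type} (v : ι → T) (h : AlgebraicIndependent (A ⧸ p) (fun i => Ideal.Quotient.mk q0 (algebraMap T C (v i)))) :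
    AlgebraicIndependent (A ⧸ p) (fun i => Ideal.Quotient.mk P (v i)) := by
  haveI : IsScalarTower (A ⧸ p) (T ⧸ P) (C ⧸ q0) := IsScalarTower.of_algebraMap_eq fun t => by
    obtain ⟨t, rfl⟩ := Ideal.Quotient.mk_surjective t
    exact congrArg (Ideal.Quotient.mk q0) (IsScalarTower.algebraMap_apply A T C t)
  exact AlgebraicIndependent.of_comp (IsScalarTower.toAlgHom (A ⧸ p) (T ⧸ P) (C ⧸ q0)) h

/-- An elementary dévissage from a quasi-finite map to a smooth algebra at a purely transcendental point. -/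
theorem nonempty_elemDevissage_of_coord {R S T : Type u} [CommRing R] [CommRing S] [CommRing T] [Algebra R S] [Algebra R T]
    [Algebra T S] [IsScalarTower R T S] [Algebra.FiniteType T S] [Algebra.Smooth R T]
    (N : Type u) [AddCommGroup N] [Module S N] [Module.Finite S N] (p : Ideal R) [p.IsPrime] (q : Ideal S) [q.IsPrime]
    [q.LiesOver p] (n : ℕ) (J : Ideal S) (hJfg : J.FG) (hJann : J ≤ Module.annihilator S N)
    (q0 : Ideal (S ⧸ J)) [q0.IsPrime] (hq0c : q0.comap (Ideal.Quotient.mk J) = q)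
    (P : Ideal T) [P.IsPrime] [P.LiesOver p] [q0.LiesOver P] [q.LiesOver P] [Algebra.QuasiFiniteAt T q0]
    (hPT : FlatCA.PurelyTranscendental p P)
    (hrelT : ∀ (R' D : Type u) [CommRing R'] [CommRing D] [Algebra R R'] [Algebra R' D] [Algebra T D] [Algebra R D]
      [IsScalarTower R R' D] [IsScalarTower R T D] [Algebra.Etale R R'] [Algebra.Etale T D]
      (p' : Ideal R') [p'.IsPrime], FlatCA.SmoothRelDim n R' D) :
    Nonempty (FlatCA.ElemDevissage R S N p q n) := by
  classical
  -- etale localisation making the closed piece finite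
  obtain ⟨D0, hD0, hTD0, hD0et, P0, hP0, hP0P, e, -, P', hP', hP'P0, hP'q, heP', hres0, hfin, huniq⟩ :=
    Algebra.exists_etale_isIdempotentElem_forall_liesOver_eq (R := T) (S := S ⧸ J) P q0
  letI : Algebra R D0 := ((algebraMap T D0).comp (algebraMap R T)).toAlgebra
  haveI : IsScalarTower R T D0 := .of_algebraMap_eq fun _ => rfl
  haveI : P0.LiesOver p := Ideal.LiesOver.trans P0 P p
  haveI : Algebra.Smooth R D0 := Algebra.Smooth.comp R T D0
  haveI : p.LiesOver p := ⟨(Ideal.comap_id p).symm⟩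
  have hPT0 : FlatCA.PurelyTranscendental p P0 :=
    purelyTranscendental_of_bijective (A := R) (A' := R) (B := T) (B' := D0) (p := p) (p' := p)
      (residue_bijective_of_frac p p fun b => ⟨1, b, p.one_notMem, by simp⟩) hres0 hPT
  -- spread out to geometrically irreducible fibres
  obtain ⟨R', D, _, _, _, _, _, _, _, _, p', y, hp', hy, hR', ⟨hD0D, hyP0, hresD⟩, hyp', hirr, hsm⟩ :=
    exists_geomIrred_nhd p P0 (by
      obtain ⟨ι, v, hv, htop⟩ := hPT0
      letI := (Ideal.ResidueField.mapₐ p P0 (Algebra.ofId R D0) (P0.over_def p)).toRingHom.toAlgebra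
      exact separableClosure_eq_bot_of_adjoin v hv.1 htop)
  haveI := hyP0
  haveI := hyp'
  obtain ⟨hRR', hp'p, hresR⟩ := hR'
  letI : Algebra T D := ((algebraMap D0 D).comp (algebraMap T D0)).toAlgebra
  haveI : IsScalarTower T D0 D := .of_algebraMap_eq fun _ => rfl
  haveI : IsScalarTower R T D := .of_algebraMap_eq fun t => by
    rw [IsScalarTower.algebraMap_apply R D0 D, IsScalarTower.algebraMap_apply R T D0, ← IsScalarTower.algebraMap_apply T D0 D]
  haveI : Algebra.Etale T D := Algebra.Etale.comp T D0 D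
  haveI hyP : y.LiesOver P := Ideal.LiesOver.trans y P0 P
  have hfracD : FracMod P y := (fracMod_of_bijective P P0 hres0).trans (fracMod_of_bijective P0 y hresD)
  have hresTD : Function.Bijective (Ideal.ResidueField.mapₐ P y (Algebra.ofId T D) (y.over_def P)) :=
    residue_bijective_of_frac P y hfracD
  haveI : SMulCommClass T R' D := ⟨fun t s d => by simp only [Algebra.smul_def, mul_left_comm]⟩
  haveI : SMulCommClass T D0 D := ⟨fun t s d => by simp only [Algebra.smul_def, mul_left_comm]⟩
  haveI : SMulCommClass T R D := ⟨fun t s d => by simp only [Algebra.smul_def, mul_left_comm]⟩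
  -- the etale neighbourhood of `S`
  haveI : IsScalarTower R S (D ⊗[T] S) := .of_algebraMap_eq fun t => by
    show (algebraMap R D t) ⊗ₜ[T] (1 : S) = (1 : D) ⊗ₜ[T] (algebraMap R S t)
    rw [IsScalarTower.algebraMap_apply R T D, IsScalarTower.algebraMap_apply R T S, Algebra.algebraMap_eq_smul_one (A := D),
      Algebra.algebraMap_eq_smul_one (A := S), TensorProduct.smul_tmul]
  haveI : Algebra.Etale S (D ⊗[T] S) := Algebra.Etale.of_equiv (Algebra.TensorProduct.commRight T S D)
  let π0 : D0 ⊗[T] S →ₐ[T] D0 ⊗[T] (S ⧸ J) :=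
    Algebra.TensorProduct.map (AlgHom.id T D0) (Ideal.Quotient.mkₐ T J)
  have hπ0 : Function.Surjective π0 := fun t => by
    induction t using TensorProduct.induction_on with
    | zero => exact ⟨0, map_zero π0⟩
    | tmul c s =>
      obtain ⟨s, rfl⟩ := Ideal.Quotient.mk_surjective s
      exact ⟨c ⊗ₜ[T] s, rfl⟩
    | add u v hu hv =>
      obtain ⟨u, rfl⟩ := hu
      obtain ⟨v, rfl⟩ := hv
      exact ⟨u + v, map_add π0 u v⟩
  let μ : D0 ⊗[T] S →ₐ[T] D ⊗[T] S := Algebra.TensorProduct.map (IsScalarTower.toAlgHom T D0 D) (AlgHom.id T S)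
  obtain ⟨e₀, he₀⟩ := hπ0 e
  let P'S : Ideal (D0 ⊗[T] S) := P'.comap π0.toRingHom
  haveI : P'S.LiesOver P0 := ⟨by
    show P0 = (P'.comap π0.toRingHom).comap (algebraMap D0 (D0 ⊗[T] S))
    rw [Ideal.comap_comap, show π0.toRingHom.comp (algebraMap D0 (D0 ⊗[T] S)) = algebraMap D0 (D0 ⊗[T] (S ⧸ J)) from
      RingHom.ext fun d => by simp [π0, Algebra.TensorProduct.algebraMap_apply]]
    exact P'.over_def P0⟩
  have hP'Sq : P'S.comap (algebraMap S (D0 ⊗[T] S)) = q := by
    rw [← hq0c, ← hP'q, Ideal.comap_comap, Ideal.comap_comap]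
    rfl
  let YY := (Ideal.fiberIsoOfBijectiveResidueField (S := S) hresTD).symm ⟨q, inferInstance, inferInstance⟩
  let Y : Ideal (D ⊗[T] S) := YY.1
  haveI : Y.IsPrime := YY.2.1
  haveI : Y.LiesOver y := YY.2.2
  have hYq : Y.comap (algebraMap S (D ⊗[T] S)) = q :=
    Ideal.comap_fiberIsoOfBijectiveResidueField_symm hresTD _
  have hY0 : Y.comap μ.toRingHom = P'S := by
    haveI : (Y.comap μ.toRingHom).LiesOver P0 := ⟨by
      show P0 = (Y.comap μ.toRingHom).comap (algebraMap D0 (D0 ⊗[T] S))
      rw [Ideal.comap_comap, show μ.toRingHom.comp (algebraMap D0 (D0 ⊗[T] S)) =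
        (algebraMap D (D ⊗[T] S)).comp (algebraMap D0 D) from RingHom.ext fun d => by
          simp [μ, Algebra.TensorProduct.algebraMap_apply], ← Ideal.comap_comap]
      exact (y.over_def P0).trans (congrArg (Ideal.comap (algebraMap D0 D)) (Y.over_def y))⟩
    refine Ideal.eq_of_comap_eq_comap_of_bijective_residueFieldMap hres0 _ _ ?_
    refine Eq.trans ?_ hP'Sq.symm
    rw [Ideal.comap_comap]
    refine Eq.trans ?_ hYq
    congr 1
    exact RingHom.ext fun s => by simp [μ]; rfl
  let et : D ⊗[T] S := μ e₀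
  have het : et ∉ Y := fun h => heP' (he₀ ▸ (show e₀ ∈ P'S from hY0 ▸ h) : e ∈ P')
  let S' := Localization.Away et
  haveI : Algebra.Etale S S' := inferInstance
  have hdY : Disjoint (Submonoid.powers et : Set (D ⊗[T] S)) Y :=
    (Ideal.disjoint_powers_iff_notMem et (inferInstance : Y.IsPrime).isRadical).2 het
  let q' : Ideal S' := Y.map (algebraMap (D ⊗[T] S) S')
  haveI hq'p : q'.IsPrime := IsLocalization.isPrime_of_isPrime_disjoint (Submonoid.powers et) _ Y inferInstance hdY
  haveI hq'Y : q'.LiesOver Y := IsLocalization.liesOver_map_of_isPrime_disjoint (Submonoid.powers et) _ hdY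
  haveI : Y.LiesOver q := ⟨hYq.symm⟩
  haveI : q'.LiesOver q := Ideal.LiesOver.trans q' Y q
  haveI hq'y : q'.LiesOver y := Ideal.LiesOver.trans q' Y y
  haveI : q'.LiesOver p' := Ideal.LiesOver.trans q' y p'
  have hresS : Function.Bijective (Ideal.ResidueField.mapₐ q q' (Algebra.ofId S S') (q'.over_def q)) :=
    residue_bijective_of_frac q q' ((hfracD.tensor Y q).away et het)
  -- the closed subscheme and the module
  let J' : Ideal S' := J.map (algebraMap S S')
  have hJq : J ≤ q := fun s hs => by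
    rw [← hq0c, Ideal.mem_comap, Ideal.Quotient.eq_zero_iff_mem.2 hs]
    exact zero_mem _
  have hJ'q : J' ≤ q' := Ideal.map_le_iff_le_comap.2 (hJq.trans (q'.over_def q).le)
  have htors : Module.IsTorsionBySet S' (S' ⊗[S] N) (J' : Set S') := by
    rintro m ⟨c, hc⟩
    have h1 : J' ≤ Module.annihilator S' (S' ⊗[S] N) := by
      refine Ideal.map_le_iff_le_comap.2 fun j hj => Module.mem_annihilator.2 fun m => ?_
      induction m using TensorProduct.induction_on with
      | zero => rw [smul_zero]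
      | tmul s m => rw [algebraMap_smul, ← TensorProduct.tmul_smul, Module.mem_annihilator.1 (hJann hj), TensorProduct.tmul_zero]
      | add u v hu hv => rw [smul_add, hu, hv, add_zero]
    exact Module.mem_annihilator.1 (h1 hc) m
  letI : Module (S' ⧸ J') (S' ⊗[S] N) := htors.module
  haveI : IsScalarTower S' (S' ⧸ J') (S' ⊗[S] N) := htors.isScalarTower
  haveI tDCG : IsScalarTower D (S' ⧸ J') (S' ⊗[S] N) := .of_algebraMap_smul fun d (m : S' ⊗[S] N) => by
    rw [IsScalarTower.algebraMap_apply D S' (S' ⧸ J')]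
    exact (IsScalarTower.algebraMap_smul (S' ⧸ J') (algebraMap D S' d) m).trans (algebraMap_smul S' d m)
  haveI tR'CG : IsScalarTower R' (S' ⧸ J') (S' ⊗[S] N) := .of_algebraMap_smul fun d (m : S' ⊗[S] N) => by
    rw [IsScalarTower.algebraMap_apply R' S' (S' ⧸ J')]
    exact (IsScalarTower.algebraMap_smul (S' ⧸ J') (algebraMap R' S' d) m).trans (algebraMap_smul S' d m)
  haveI tR'DG : IsScalarTower R' D (S' ⊗[S] N) := .of_algebraMap_smul fun d (m : S' ⊗[S] N) => by
    rw [← algebraMap_smul S' (algebraMap R' D d) m, ← IsScalarTower.algebraMap_apply R' D S', algebraMap_smul]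
  let z : Ideal (S' ⧸ J') := q'.map (Ideal.Quotient.mk J')
  haveI hz : z.IsPrime := Ideal.map_isPrime_of_surjective Ideal.Quotient.mk_surjective (by rwa [Ideal.mk_ker])
  have hzc : z.comap (Ideal.Quotient.mk J') = q' := by
    rw [Ideal.comap_map_of_surjective' _ Ideal.Quotient.mk_surjective, Ideal.mk_ker, sup_eq_left.2 hJ'q]
  haveI hzq : z.LiesOver q' := ⟨hzc.symm⟩
  haveI hzy : z.LiesOver y := Ideal.LiesOver.trans z q' y
  -- the closed piece of the localised fibre product
  let cS : S →ₐ[T] S' ⧸ J' := IsScalarTower.toAlgHom T S (S' ⧸ J')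
  have hcS : ∀ j ∈ J, cS j = 0 := fun j hj => by
    show algebraMap S (S' ⧸ J') j = 0
    rw [IsScalarTower.algebraMap_apply S S' (S' ⧸ J')]
    exact Ideal.Quotient.eq_zero_iff_mem.2 (Ideal.mem_map_of_mem _ hj)
  let χ : D0 ⊗[T] (S ⧸ J) →ₐ[T] S' ⧸ J' :=
    Algebra.TensorProduct.lift ((IsScalarTower.toAlgHom T D (S' ⧸ J')).comp (IsScalarTower.toAlgHom T D0 D))
      (Ideal.Quotient.liftₐ J cS hcS) fun _ _ => Commute.all _ _
  have hχ : ∀ t, χ (π0 t) = algebraMap (D ⊗[T] S) (S' ⧸ J') (μ t) := by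
    intro t
    induction t using TensorProduct.induction_on with
    | zero => simp
    | add u v hu hv => simp only [map_add, hu, hv]
    | tmul d s =>
      have h1 : (algebraMap D0 D d ⊗ₜ[T] s : D ⊗[T] S) =
          algebraMap D (D ⊗[T] S) (algebraMap D0 D d) * algebraMap S (D ⊗[T] S) s := by
        show _ = ((algebraMap D0 D d) ⊗ₜ[T] (1 : S)) * ((1 : D) ⊗ₜ[T] s)
        rw [Algebra.TensorProduct.tmul_mul_tmul, mul_one, one_mul]
      simp only [χ, π0, μ, Algebra.TensorProduct.map_tmul, AlgHom.coe_id, id_eq, IsScalarTower.coe_toAlgHom',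
        Algebra.TensorProduct.lift_tmul, AlgHom.comp_apply, Ideal.Quotient.mkₐ_eq_mk]
      rw [h1, map_mul, ← IsScalarTower.algebraMap_apply D (D ⊗[T] S) (S' ⧸ J'),
        ← IsScalarTower.algebraMap_apply S (D ⊗[T] S) (S' ⧸ J')]
      rfl
  have hχe : IsUnit (χ e) := by
    rw [← he₀, hχ, IsScalarTower.algebraMap_apply (D ⊗[T] S) S' (S' ⧸ J')]
    exact (IsLocalization.Away.algebraMap_isUnit et).map _
  have huniqC : ∀ (z₁ : Ideal (S' ⧸ J')) [z₁.IsPrime], z₁.LiesOver y → z₁ = z := by
    intro z₁ _ hz₁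
    let P'' := z₁.comap χ.toRingHom
    haveI : P''.LiesOver P0 := ⟨by
      show P0 = (z₁.comap χ.toRingHom).comap (algebraMap D0 (D0 ⊗[T] (S ⧸ J)))
      rw [Ideal.comap_comap, show χ.toRingHom.comp (algebraMap D0 (D0 ⊗[T] (S ⧸ J))) =
        (algebraMap D (S' ⧸ J')).comp (algebraMap D0 D) from RingHom.ext fun d => by
          simp [χ, Algebra.TensorProduct.algebraMap_apply], ← Ideal.comap_comap]
      exact (y.over_def P0).trans (congrArg (Ideal.comap (algebraMap D0 D)) (z₁.over_def y))⟩
    have hP'' : P'' = P' := huniq P'' inferInstance inferInstance fun he =>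
      (inferInstance : z₁.IsPrime).ne_top (Ideal.eq_top_of_isUnit_mem _ he hχe)
    let Q2 := z₁.comap (algebraMap (D ⊗[T] S) (S' ⧸ J'))
    haveI : Q2.LiesOver y := ⟨by
      show y = (z₁.comap _).comap (algebraMap D (D ⊗[T] S))
      rw [Ideal.comap_comap, ← IsScalarTower.algebraMap_eq]
      exact z₁.over_def y⟩
    have hQ2 : Q2 = Y := by
      refine Ideal.eq_of_comap_eq_comap_of_bijective_residueFieldMap hresTD _ _ ?_
      refine Eq.trans ?_ hYq.symm
      rw [← hP'Sq]
      show _ = (P'.comap π0.toRingHom).comap (algebraMap S (D0 ⊗[T] S))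
      rw [← hP'']
      ext s
      simp only [Q2, P'', Ideal.mem_comap, AlgHom.toRingHom_eq_coe, RingHom.coe_coe, hχ]
      refine iff_of_eq (congrArg (fun t => algebraMap (D ⊗[T] S) (S' ⧸ J') t ∈ z₁) ?_)
      show _ = μ ((1 : D0) ⊗ₜ[T] s)
      simp [μ]
    have hQ3 : z₁.comap (Ideal.Quotient.mk J') = q' := by
      rw [show q' = Y.map (algebraMap (D ⊗[T] S) S') from rfl, ← hQ2]
      conv_lhs => rw [← IsLocalization.map_comap (Submonoid.powers et) S' (z₁.comap (Ideal.Quotient.mk J'))]
      exact congrArg (Ideal.map _) (Ideal.comap_comap _ _)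
    rw [← Ideal.map_comap_of_surjective _ Ideal.Quotient.mk_surjective z₁, hQ3]
  -- finiteness
  have hfinC : Module.Finite D (S' ⧸ J') := by
    haveI := hfin
    haveI : IsScalarTower D0 D (S' ⧸ J') := inferInstance
    let χ₀ : D0 ⊗[T] (S ⧸ J) →ₐ[D0] S' ⧸ J' :=
      { χ.toRingHom with
        commutes' := fun d => by
          show χ (algebraMap D0 _ d) = _
          simp [χ, Algebra.TensorProduct.algebraMap_apply, ← IsScalarTower.algebraMap_apply D0 D (S' ⧸ J')] }
    let υ : Localization.Away e →ₐ[D0] S' ⧸ J' := IsLocalization.liftAlgHom (M := Submonoid.powers e) (f := χ₀) (by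
      rintro ⟨_, k, rfl⟩
      show IsUnit (χ (e ^ k))
      rw [map_pow]
      exact hχe.pow k)
    have hυ : ∀ t, υ (algebraMap _ _ t) = χ t := fun t => IsLocalization.lift_eq _ t
    let Ψ : D ⊗[D0] Localization.Away e →ₐ[D] S' ⧸ J' :=
      Algebra.TensorProduct.lift (Algebra.ofId D _) υ fun _ _ => Commute.all _ _
    refine Module.Finite.of_surjective Ψ.toLinearMap ?_
    have hmem : ∀ t, χ t ∈ Ψ.range := fun t => ⟨1 ⊗ₜ algebraMap _ _ t, by
      show Ψ (1 ⊗ₜ algebraMap _ _ t) = _
      simp [Ψ, hυ]⟩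
    have hinv : ∀ k : ℕ, ∃ v ∈ Ψ.range, v * algebraMap (D ⊗[T] S) (S' ⧸ J') (et ^ k) = 1 := by
      intro k
      obtain ⟨v, hv⟩ := IsLocalization.Away.algebraMap_isUnit (S := Localization.Away e) e
      refine ⟨Ψ (1 ⊗ₜ ((v⁻¹ : (Localization.Away e)ˣ) : Localization.Away e)) ^ k, pow_mem (AlgHom.mem_range_self Ψ _) k, ?_⟩
      rw [map_pow, ← mul_pow, ← hχ, he₀]
      rw [show Ψ (1 ⊗ₜ ((v⁻¹ : (Localization.Away e)ˣ) : Localization.Away e)) * χ e = 1 by
        rw [← hυ, ← hv]
        simp only [Ψ, Algebra.TensorProduct.lift_tmul, map_one, one_mul]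
        rw [← map_mul, Units.inv_mul, map_one], one_pow]
    intro c
    obtain ⟨c, rfl⟩ := Ideal.Quotient.mk_surjective c
    obtain ⟨s, ⟨_, k, rfl⟩, rfl⟩ := IsLocalization.exists_mk'_eq (Submonoid.powers et) c
    have hs : algebraMap (D ⊗[T] S) (S' ⧸ J') s ∈ Ψ.range := by
      induction s using TensorProduct.induction_on with
      | zero => rw [map_zero]; exact zero_mem _
      | add u v hu hv => rw [map_add]; exact add_mem hu hv
      | tmul d s =>
        have h1 : (d ⊗ₜ[T] s : D ⊗[T] S) = algebraMap D (D ⊗[T] S) d * μ ((1 : D0) ⊗ₜ[T] s) := by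
          simp [μ, Algebra.TensorProduct.algebraMap_apply]
        rw [h1, map_mul, ← IsScalarTower.algebraMap_apply D (D ⊗[T] S) (S' ⧸ J'), ← hχ]
        exact mul_mem (Ψ.range.algebraMap_mem d) (hmem _)
    obtain ⟨v, hv, hve⟩ := hinv k
    obtain ⟨m, hm⟩ := mul_mem hv hs
    refine ⟨m, ?_⟩
    show Ψ m = _
    rw [show Ψ m = _ from hm]
    have h2 : algebraMap (D ⊗[T] S) (S' ⧸ J') s =
        algebraMap (D ⊗[T] S) (S' ⧸ J') (et ^ k) *
          Ideal.Quotient.mk J' (IsLocalization.mk' S' s (⟨_, k, rfl⟩ : Submonoid.powers et)) := by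
      rw [IsScalarTower.algebraMap_apply (D ⊗[T] S) S' (S' ⧸ J') s,
        IsScalarTower.algebraMap_apply (D ⊗[T] S) S' (S' ⧸ J') (et ^ k)]
      show Ideal.Quotient.mk J' _ = Ideal.Quotient.mk J' _ * Ideal.Quotient.mk J' _
      rw [← map_mul, IsLocalization.mk'_spec'_mk]
    rw [h2, ← mul_assoc, hve, one_mul]
  haveI : Module.Finite (S' ⧸ J') (S' ⊗[S] N) := Module.Finite.of_restrictScalars_finite S' _ _
  have hfp : Algebra.FinitePresentation S' (S' ⧸ J') := Algebra.FinitePresentation.quotient (hJfg.map _)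
  have hrel : FlatCA.SmoothRelDim n R' D := by
    haveI := hRR'
    exact hrelT R' D p'
  exact ⟨{
    R' := R'
    S' := S'
    C := S' ⧸ J'
    D := D
    N' := S' ⊗[S] N
    G := S' ⊗[S] N
    tDCG := tDCG
    tR'CG := tR'CG
    tR'DG := tR'DG
    p' := p'
    q' := q'
    z := z
    y := y
    etaleR := ⟨hRR', hp'p, hresR⟩
    etaleS := ⟨inferInstance, inferInstance, hresS⟩
    f := TensorProduct.mk S S' N 1
    isBaseChange := TensorProduct.isBaseChange S N S'
    surjC := Ideal.Quotient.mk_surjective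
    fpC := hfp
    iso := LinearEquiv.refl S' _
    finiteDC := hfinC
    finiteG := inferInstance
    uniq := huniqC
    pureTrans := purelyTranscendental_of_bijective hresR hresD hPT0
    smooth := hrel
    geomInt := geomIntegralFibres_of_smooth hirr }⟩

/-- The existence of elementary dévissages. -/
theorem nonempty_elemDevissage {R S : Type u} [CommRing R] [CommRing S] [Algebra R S] [Algebra.FiniteType R S]
    (N : Type u) [AddCommGroup N] [Module S N] [Module R N] [IsScalarTower R S N] [Module.Finite S N]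
    (p : Ideal R) [p.IsPrime] (q : Ideal S) [q.IsPrime] [q.LiesOver p] (n : ℕ)
    (x : PrimeSpectrum (p.Fiber S)) (hxq : x.asIdeal = FlatCA.fiberIdeal p q)
    (hx : x ∈ Module.support (p.Fiber S) (FlatCA.fiberMod p S N))
    (hn : FlatMor.localDim (Module.support (p.Fiber S) (FlatCA.fiberMod p S N)) ⟨x, hx⟩ = n) :
    Nonempty (FlatCA.ElemDevissage R S N p q n) := by
  classical
  obtain ⟨J, hJfg, hJann, hJsupp⟩ := S1276.result (A := R) (B := S) N p
  obtain ⟨q0, hq0, hq0c, hq0p, Q0, hQ0, hQ0c, hdim⟩ := exists_fibre_point p J _ hJsupp q x hxq hx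
  haveI := hq0
  haveI := hq0p
  obtain ⟨a, r, φ, hra, hqf, hvan, hind⟩ := exists_coord q0 p Q0 hQ0 hQ0c n (hdim.trans hn)
  -- lift the coordinates
  choose w hw using fun i => Ideal.Quotient.mk_surjective (φ (MvPolynomial.X i))
  let T := MvPolynomial (Fin r ⊕ Fin a) R
  let ψ : T →ₐ[R] S := MvPolynomial.aeval w
  letI : Algebra T S := ψ.toRingHom.toAlgebra
  haveI : IsScalarTower R T S := .of_algebraMap_eq fun t => (ψ.commutes t).symm
  haveI : Algebra.FiniteType T S := Algebra.FiniteType.of_restrictScalars_finiteType R T S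
  have hφ : ∀ t : T, φ t = algebraMap T (S ⧸ J) t := fun t => by
    have : φ = (Ideal.Quotient.mkₐ R J).comp ψ := MvPolynomial.algHom_ext fun i => by simp [ψ, hw]
    rw [this]
    rfl
  haveI hqf' : Algebra.QuasiFiniteAt T q0 := by
    have key : ∀ i : Algebra T (S ⧸ J), (∀ t, φ t = @algebraMap T (S ⧸ J) _ _ i t) →
        @Algebra.QuasiFiniteAt T (S ⧸ J) _ _ i q0 _ := by
      intro i hi
      obtain rfl : i = φ.toRingHom.toAlgebra := Algebra.algebra_ext _ _ fun t => (hi t).symm
      exact hqf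
    exact key _ hφ
  let P : Ideal T := q0.comap (algebraMap T (S ⧸ J))
  haveI : q0.LiesOver P := ⟨rfl⟩
  haveI : P.LiesOver p := ⟨by
    show p = (q0.comap (algebraMap T (S ⧸ J))).comap (algebraMap R T)
    rw [Ideal.comap_comap, ← IsScalarTower.algebraMap_eq]
    exact q0.over_def p⟩
  haveI : q.LiesOver P := ⟨by
    show P = q.comap (algebraMap T S)
    rw [← hq0c, Ideal.comap_comap]
    rfl⟩
  have hvanP : ∀ j, (MvPolynomial.X (Sum.inr j) : T) ∈ P := fun j => by
    show algebraMap T (S ⧸ J) _ ∈ q0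
    rw [← hφ]
    exact hvan j
  have hindP : AlgebraicIndependent (R ⧸ p) (fun i => Ideal.Quotient.mk P (MvPolynomial.X (Sum.inl i) : T)) := by
    refine independent_of_comap p P q0 _ ?_
    convert hind using 1
    funext i
    rw [← hφ]
  haveI : Algebra.Smooth R T := ⟨inferInstance, inferInstance⟩
  refine nonempty_elemDevissage_of_coord (T := T) N p q n J hJfg hJann q0 hq0c P
    (purelyTranscendental_mvPolynomial p P hvanP hindP) ?_
  intro R' D _ _ _ _ _ _ _ _ _ _ p' _
  let T' := MvPolynomial (Fin r ⊕ Fin a) R'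
  letI : Algebra T' D := (MvPolynomial.aeval (R := R') fun i => algebraMap T D (MvPolynomial.X i)).toRingHom.toAlgebra
  haveI : IsScalarTower R' T' D := .of_algebraMap_eq fun s => (MvPolynomial.aeval_C _ s).symm
  haveI : Nontrivial R' := ⟨⟨0, 1, fun h => (inferInstance : p'.IsPrime).one_notMem (h ▸ zero_mem p')⟩⟩
  letI : Algebra T T' := MvPolynomial.algebraMvPolynomial
  haveI : IsScalarTower T T' D := by
    refine .of_algebraMap_eq' ?_
    refine MvPolynomial.ringHom_ext (fun c => ?_) fun i => ?_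
    · show algebraMap T D (MvPolynomial.C c) =
        MvPolynomial.aeval (fun i => algebraMap T D (MvPolynomial.X i)) (MvPolynomial.map (algebraMap R R') (MvPolynomial.C c))
      rw [MvPolynomial.map_C, MvPolynomial.aeval_C, ← IsScalarTower.algebraMap_apply R R' D, ← MvPolynomial.algebraMap_eq,
        ← IsScalarTower.algebraMap_apply R T D]
    · show algebraMap T D (MvPolynomial.X i) =
        MvPolynomial.aeval (fun i => algebraMap T D (MvPolynomial.X i)) (MvPolynomial.map (algebraMap R R') (MvPolynomial.X i))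
      rw [MvPolynomial.map_X, MvPolynomial.aeval_X]
  haveI : Algebra.Etale T T' :=
    haveI : Algebra.IsPushout R R' T T' := inferInstance
    haveI : Algebra.IsPushout R T R' T' := Algebra.IsPushout.symm inferInstance
    Algebra.Etale.of_equiv (Algebra.IsPushout.equiv R T R' T')
  haveI : Algebra.Etale T' D := Algebra.Etale.of_restrictScalars T T' D
  have := smoothRelDim_of_etale (R := R') (D := D) (ι := Fin r ⊕ Fin a)
  rwa [Fintype.card_sum, Fintype.card_fin, Fintype.card_fin, hra] at this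

end Groth.Agent.DevissLib
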