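import Groth.Agent.DevissLib.Spread

/-!
# Flatness along a spread out dévissage
-/

set_option autoImplicit false
set_option linter.style.haveILetI false
set_option backward.isDefEq.respectTransparency false
set_option backward.isDefEq.respectTransparency.types false
set_option maxHeartbeats 1000000

universe u

open TensorProduct AlgebraicGeometry CategoryTheory

noncomputable section

namespace Groth.Agent.DevissLib

variable {R : Type u} [CommRing R]

theorem flat_tensor_away_mul {M : Type u} [AddCommGroup M] [Module R M] (f g : R)
    [Module.Flat R (M ⊗[R] Localization.Away f)] : Module.Flat R (M ⊗[R] Localization.Away (f * g)) := by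
  letI : Algebra (Localization.Away f) (Localization.Away (f * g)) :=
    (IsLocalization.Away.lift (S := Localization.Away f) f (g := algebraMap R (Localization.Away (f * g)))
      (isUnit_of_dvd_unit (map_dvd _ (dvd_mul_right f g)) (IsLocalization.Away.algebraMap_isUnit (f * g)))).toAlgebra
  haveI : IsScalarTower R (Localization.Away f) (Localization.Away (f * g)) :=
    IsScalarTower.of_algebraMap_eq fun x => (IsLocalization.Away.lift_eq f _ x).symm
  haveI : Module.Flat R (Localization.Away (f * g)) := IsLocalization.flat _ (Submonoid.powers (f * g))
  haveI : Module.Flat (Localization.Away f) (Localization.Away (f * g)) :=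
    (Module.flat_iff_of_isLocalization (Localization.Away f) (Submonoid.powers f) _).2 inferInstance
  haveI : Module.Flat R (Localization.Away f ⊗[R] M) := Module.Flat.of_linearEquiv (TensorProduct.comm R _ M)
  haveI : Module.Flat (Localization.Away f) (Localization.Away f ⊗[R] M) :=
    (Module.flat_iff_of_isLocalization (Localization.Away f) (Submonoid.powers f) _).2 inferInstance
  haveI : Module.Flat R (Localization.Away f) := IsLocalization.flat _ (Submonoid.powers f)
  haveI : Module.Flat R (Localization.Away (f * g) ⊗[Localization.Away f] (Localization.Away f ⊗[R] M)) :=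
    Module.Flat.trans R (Localization.Away f) _
  exact Module.Flat.of_linearEquiv ((TensorProduct.comm R M _).trans
    ((TensorProduct.AlgebraTensorModule.cancelBaseChange R (Localization.Away f) (Localization.Away f)
      (Localization.Away (f * g)) M).restrictScalars R).symm)

theorem isUnit_end_tensor (f : R) (X : Type u) [AddCommGroup X] [Module R X] :
    IsUnit (algebraMap R (Module.End R (Localization.Away f ⊗[R] X)) f) := by
  obtain ⟨u, hu⟩ := IsLocalization.Away.algebraMap_isUnit (S := Localization.Away f) f
  have h := (u.isUnit.smul_bijective (β := Localization.Away f ⊗[R] X))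
  rw [hu] at h
  rw [Module.End.isUnit_iff]
  simp only [algebraMap_smul] at h
  exact h

theorem flat_coker_tensor {F M C : Type u} [AddCommGroup F] [Module R F] [AddCommGroup M] [Module R M]
    [AddCommGroup C] [Module R C] {α : F →ₗ[R] M} {g : M →ₗ[R] C} (hex : Function.Exact α g) (hg : Function.Surjective g)
    {f : R} (hgood : GoodAt α f) [Module.Flat R (M ⊗[R] Localization.Away f)] :
    Module.Flat R (C ⊗[R] Localization.Away f) := by
  refine CAlgBasics.flat_coker_of_injective_rTensor_quotient (rTensor_exact (Localization.Away f) hex hg)
    (LinearMap.rTensor_surjective _ hg) fun I _ => ?_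
  let a₁ := TensorProduct.assoc R F (Localization.Away f) (R ⧸ I)
  let a₂ := TensorProduct.assoc R M (Localization.Away f) (R ⧸ I)
  have key : ∀ w, a₂ ((α.rTensor (Localization.Away f)).rTensor (R ⧸ I) w) =
      α.rTensor (Localization.Away f ⊗[R] (R ⧸ I)) (a₁ w) := by
    intro w
    exact LinearMap.congr_fun (TensorProduct.ext_threefold (g := a₂.toLinearMap ∘ₗ (α.rTensor _).rTensor _)
      (h := α.rTensor _ ∘ₗ a₁.toLinearMap) fun a b c => by simp [a₁, a₂]) w
  intro w w' hww
  exact a₁.injective (hgood _ (isUnit_end_tensor f (R ⧸ I)) (by rw [← key, ← key]; exact congrArg a₂ hww))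

variable {B : Type u} [CommRing B] [Algebra R B]

theorem flatAt_of_flat_away {M : Type u} [AddCommGroup M] [Module B M] [Module R M] [IsScalarTower R B M] (f : R)
    (P : Ideal B) [P.IsPrime] (hf : algebraMap R B f ∉ P) [Module.Flat R (M ⊗[R] Localization.Away f)] :
    FlatCA.FlatAt R P M := by
  let g : M →ₗ[B] M ⊗[R] Localization.Away f :=
    { toFun := fun m => m ⊗ₜ[R] 1
      map_add' := fun a b => TensorProduct.add_tmul a b _
      map_smul' := fun _ _ => rfl }
  haveI : IsLocalizedModule (Submonoid.powers f) (g.restrictScalars R) := by
    haveI : IsLocalizedModule (Submonoid.powers f) (TensorProduct.mk R (Localization.Away f) M 1) :=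
      (isLocalizedModule_iff_isBaseChange (Submonoid.powers f) (Localization.Away f) _).2
        (TensorProduct.isBaseChange R M (Localization.Away f))
    exact IsLocalizedModule.of_linearEquiv (Submonoid.powers f) (TensorProduct.mk R (Localization.Away f) M 1)
      (TensorProduct.comm R (Localization.Away f) M)
  haveI := IsLocalizedModule.of_restrictScalars (A := B) (Submonoid.powers f) g
  refine FlatLocus.flat_localized_of_le (Algebra.algebraMapSubmonoid B (Submonoid.powers f)) P.primeCompl ?_ g
    (LocalizedModule.mkLinearMap P.primeCompl M)
  rintro _ ⟨_, ⟨k, rfl⟩, rfl⟩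
  rw [map_pow]
  exact P.primeCompl.pow_mem hf k

/-- Geometrically irreducible fibres are inherited by base change. -/
theorem geomIrredFibres_baseChange (h : FlatCA.GeomIrredFibres R B) (A : Type u) [CommRing A] [Algebra R A] :
    FlatCA.GeomIrredFibres A (A ⊗[R] B) :=
  MorphismProperty.of_isPullback (P := @GeometricallyIrreducible)
    (isPullback_SpecMap_of_isPushout _ _ _ _ (CommRingCat.isPushout_tensorProduct R A B)).flip h

end Groth.Agent.DevissLib
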