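import Groth.Agent.DevissLib.Step

/-!
# Modules with a complete dévissage at a point of flatness
-/

set_option autoImplicit false
set_option linter.style.haveILetI false
set_option backward.isDefEq.respectTransparency false
set_option backward.isDefEq.respectTransparency.types false
set_option maxHeartbeats 1000000

universe u

open IsLocalRing TensorProduct

noncomputable section

namespace Groth.Agent.DevissLib

/-- A finitely presented module stays so over a finite algebra acting on it. -/
theorem fp_of_finite_algebra {B A M : Type u} [CommRing B] [CommRing A] [Algebra B A] [Module.Finite B A]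
    [AddCommGroup M] [Module A M] [Module B M] [IsScalarTower B A M] [Module.FinitePresentation B M] :
    Module.FinitePresentation A M := by
  haveI : Module.Finite A M := Module.Finite.of_restrictScalars_finite B A M
  obtain ⟨k, p, hp⟩ := Module.Finite.exists_fin' A M
  refine Module.finitePresentation_of_surjective p hp ?_
  haveI : Module.Finite B (LinearMap.ker p) := by
    have h := Module.FinitePresentation.fg_ker (p.restrictScalars B) hp
    rw [LinearMap.ker_restrictScalars] at h
    exact Module.Finite.of_fg h
  exact Module.Finite.iff_fg.1 (Module.Finite.of_restrictScalars_finite B A (LinearMap.ker p))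

/-- Flatness at a point is invariant under isomorphism. -/
theorem flatAt_of_equiv {R S M M' : Type u} [CommRing R] [CommRing S] [Algebra R S] (q : Ideal S) [q.IsPrime]
    [AddCommGroup M] [Module S M] [Module R M] [IsScalarTower R S M]
    [AddCommGroup M'] [Module S M'] [Module R M'] [IsScalarTower R S M'] (e : M ≃ₗ[S] M')
    (h : FlatCA.FlatAt R q M) : FlatCA.FlatAt R q M' := by
  haveI : Module.Flat R (LocalizedModule q.primeCompl M) := h
  haveI : IsLocalizedModule q.primeCompl ((LocalizedModule.mkLinearMap q.primeCompl M') ∘ₗ e.toLinearMap) :=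
    IsLocalizedModule.of_linearEquiv_right q.primeCompl (LocalizedModule.mkLinearMap q.primeCompl M') e
  exact Module.Flat.of_linearEquiv ((IsLocalizedModule.linearEquiv q.primeCompl
    ((LocalizedModule.mkLinearMap q.primeCompl M') ∘ₗ e.toLinearMap)
    (LocalizedModule.mkLinearMap q.primeCompl M)).restrictScalars R)

/-- Assembling successive splittings. -/
theorem assemble (R : Type u) [CommRing R] : ∀ (n : ℕ) (X Y : ℕ → Type u) [∀ i, AddCommGroup (X i)] [∀ i, Module R (X i)]
    [∀ i, AddCommGroup (Y i)] [∀ i, Module R (Y i)],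
    (∀ i, i + 1 < n + 1 → Nonempty (X i ≃ₗ[R] Y i × X (i + 1))) → Nonempty (X n ≃ₗ[R] Y n) →
    Nonempty (X 0 ≃ₗ[R] ∀ i : Fin (n + 1), Y i) := by
  intro n
  induction n with
  | zero =>
    intro X Y _ _ _ _ _ hlast
    obtain ⟨e⟩ := hlast
    exact ⟨e.trans (LinearEquiv.piUnique R (fun i : Fin 1 => Y i)).symm⟩
  | succ n ih =>
    intro X Y _ _ _ _ h hlast
    obtain ⟨e₀⟩ := h 0 (by omega)
    obtain ⟨e₁⟩ := ih (fun i => X (i + 1)) (fun i => Y (i + 1)) (fun i hi => h (i + 1) (by omega)) hlast
    exact ⟨(e₀.trans (LinearEquiv.prodCongr (LinearEquiv.refl R (Y 0)) e₁)).trans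
      (Fin.consLinearEquiv R (fun i : Fin (n + 2) => Y i))⟩

variable {R S : Type u} [CommRing R] [IsLocalRing R] [CommRing S] [Algebra R S]
  {N : Type u} [AddCommGroup N] [Module S N] [Module R N] [IsScalarTower R S N] [Module.Finite S N]
  {q : Ideal S} [q.IsPrime] [q.LiesOver (maximalIdeal R)]

theorem main (hflat : FlatCA.FlatAt R q N) (D : FlatCA.CompleteDevissage R S N (maximalIdeal R))
    (E : FlatCA.CompleteDevissageAt R S N (maximalIdeal R) q D) :
    Module.FinitePresentation S N ∧ Module.Free R N ∧ Nonempty (N ≃ₗ[R] (∀ i : Fin D.n, Fin (D.r i) → D.B i)) := by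
  haveI := E.hqB
  haveI := E.hqA
  haveI : ∀ i, IsScalarTower R (D.A i) (D.M i) := fun i => IsScalarTower.of_algebraMap_smul fun r m => by
    rw [IsScalarTower.algebraMap_apply R (D.B i) (D.A i), algebraMap_smul, algebraMap_smul]
  haveI : IsScalarTower R S (D.M 0) := IsScalarTower.of_algebraMap_smul fun r m => by
    rw [← algebraMap_smul (D.A 0) (algebraMap R S r) m, ← IsScalarTower.algebraMap_apply R S (D.A 0), algebraMap_smul]
  haveI : ∀ i, IsScalarTower R (D.B i) (D.M (i + 1)) := fun i => IsScalarTower.of_algebraMap_smul fun r m => by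
    rw [← algebraMap_smul (D.A (i + 1)) (algebraMap R (D.B i) r) m, ← IsScalarTower.algebraMap_apply R (D.B i) (D.A (i + 1)),
      algebraMap_smul]
  have hfinB : ∀ i, i < D.n → Module.Finite (D.B i) (D.M i) := fun i hi => by
    haveI := D.finiteBA i hi
    haveI := D.finiteM i hi
    exact Module.Finite.trans (D.A i) (D.M i)
  have hstep : ∀ i, i < D.n → FlatCA.FlatAt R (E.qB i) (D.M i) →
      Function.Injective (D.α i) ∧ FlatCA.FlatAt R (E.qB i) (D.M i ⧸ LinearMap.range (D.α i)) := fun i hi hf => by
    haveI := D.smooth i hi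
    haveI := hfinB i hi
    haveI := E.overB i
    exact step (D.geomIrred i hi) (E.qB i) (D.α i) (D.fibreIso i hi) hf
  -- flatness along the dévissage
  have hfl : ∀ i, i < D.n → FlatCA.FlatAt R (E.qB i) (D.M i) := by
    intro i
    induction i with
    | zero =>
      intro h0
      haveI := D.finiteBA 0 h0
      haveI := E.overA 0
      haveI : Module.Finite S (D.A 0) := Module.Finite.of_surjective (Algebra.linearMap S (D.A 0)) D.surjSA
      haveI : (E.qA 0).LiesOver q := ⟨E.q0.symm⟩
      have hu : ∀ (Q' : Ideal (D.A 0)) [Q'.IsPrime], Q'.LiesOver q → Q' = E.qA 0 := fun Q' _ hQ' =>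
        Ideal.comap_injective_of_surjective _ D.surjSA (hQ'.over.symm.trans E.q0.symm)
      exact (flatAt_iff_of_unique (E.qB 0) (E.qA 0) R (D.M 0) (E.uniq 0 h0)).2
        ((flatAt_iff_of_unique q (E.qA 0) R (D.M 0) hu).1 (flatAt_of_equiv q D.isoN hflat))
    | succ i ih =>
      intro hi
      have hi0 : i < D.n := by omega
      haveI := D.finiteBA (i + 1) hi
      haveI := E.overA (i + 1)
      haveI : Module.Finite (D.B i) (D.A (i + 1)) :=
        Module.Finite.of_surjective (Algebra.linearMap (D.B i) (D.A (i + 1))) (D.surjBA' i hi)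
      haveI : (E.qA (i + 1)).LiesOver (E.qB i) := ⟨(E.qStep i hi).symm⟩
      have hu : ∀ (Q' : Ideal (D.A (i + 1))) [Q'.IsPrime], Q'.LiesOver (E.qB i) → Q' = E.qA (i + 1) := fun Q' _ hQ' =>
        Ideal.comap_injective_of_surjective _ (D.surjBA' i hi) (hQ'.over.symm.trans (E.qStep i hi).symm)
      exact (flatAt_iff_of_unique (E.qB (i + 1)) (E.qA (i + 1)) R (D.M (i + 1)) (E.uniq (i + 1) hi)).2
        ((flatAt_iff_of_unique (E.qB i) (E.qA (i + 1)) R (D.M (i + 1)) hu).1
          (flatAt_of_equiv (E.qB i) (D.isoCoker i hi) (hstep i hi0 (ih hi0)).2))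
  have hfree : ∀ i, i < D.n → Module.Free R (Fin (D.r i) → D.B i) := fun i hi => by
    haveI := D.smooth i hi
    haveI := free_of_smooth (D.geomIrred i hi)
    exact Module.Free.of_equiv (Finsupp.linearEquivFunOnFinite R (D.B i) (Fin (D.r i)))
  -- going back up
  have hback : ∀ k i, i + k + 1 = D.n → Module.Free R (D.M i) ∧ Module.FinitePresentation (D.A i) (D.M i) ∧
      (i + 1 < D.n → Nonempty (D.M i ≃ₗ[R] (Fin (D.r i) → D.B i) × D.M (i + 1))) ∧
      (k = 0 → Nonempty (D.M i ≃ₗ[R] (Fin (D.r i) → D.B i))) := by
    intro k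
    induction k with
    | zero =>
      intro i hi
      have hi0 : i < D.n := by omega
      have hs : Function.Surjective (D.α i) := by
        obtain rfl : i = D.n - 1 := by omega
        exact D.cokerLast
      haveI := hfree i hi0
      haveI := D.finiteBA i hi0
      let e := LinearEquiv.ofBijective (D.α i) ⟨(hstep i hi0 (hfl i hi0)).1, hs⟩
      haveI : Module.FinitePresentation (D.B i) (D.M i) := Module.FinitePresentation.of_equiv e
      exact ⟨Module.Free.of_equiv (e.restrictScalars R), fp_of_finite_algebra (B := D.B i), fun h => absurd h (by omega),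
        fun _ => ⟨(e.restrictScalars R).symm⟩⟩
    | succ k ih =>
      intro i hi
      have hi0 : i < D.n := by omega
      have hi1 : i + 1 < D.n := by omega
      obtain ⟨hfr, hfp, -, -⟩ := ih (i + 1) (by omega)
      haveI := hfree i hi0
      haveI := hfr
      haveI := hfp
      haveI := D.finiteBA i hi0
      obtain ⟨hinj, -⟩ := hstep i hi0 (hfl i hi0)
      let g : D.M i →ₗ[D.B i] D.M (i + 1) := (D.isoCoker i hi1).toLinearMap ∘ₗ (LinearMap.range (D.α i)).mkQ
      have hg : Function.Surjective g :=
        (D.isoCoker i hi1).surjective.comp (LinearMap.range (D.α i)).mkQ_surjective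
      have hker : LinearMap.ker g = LinearMap.range (D.α i) := by
        rw [LinearMap.ker_comp, LinearEquiv.ker, Submodule.comap_bot, Submodule.ker_mkQ]
      obtain ⟨s, hs⟩ := Module.projective_lifting_property (g.restrictScalars R) LinearMap.id hg
      have hb : Function.Bijective (((D.α i).restrictScalars R).coprod s) := by
        constructor
        · refine (injective_iff_map_eq_zero _).2 fun ⟨v, w⟩ hvw => ?_
          rw [LinearMap.coprod_apply] at hvw
          have hgv : g (D.α i v) = 0 :=
            LinearMap.mem_ker.1 (hker ▸ LinearMap.mem_range_self (D.α i) v)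
          have hw : w = 0 := by
            have h1 := congrArg g hvw
            rw [map_add, LinearMap.restrictScalars_apply, hgv, zero_add, map_zero] at h1
            exact (LinearMap.congr_fun hs w).symm.trans h1
          subst hw
          rw [map_zero, add_zero] at hvw
          exact Prod.ext (hinj (hvw.trans (map_zero (D.α i)).symm)) rfl
        · intro m
          obtain ⟨v, hv⟩ : m - s (g m) ∈ LinearMap.range (D.α i) := by
            rw [← hker, LinearMap.mem_ker, map_sub]
            exact sub_eq_zero.2 (LinearMap.congr_fun hs (g m)).symm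
          exact ⟨(v, g m), by rw [LinearMap.coprod_apply, LinearMap.restrictScalars_apply, hv, sub_add_cancel]⟩
      let e := LinearEquiv.ofBijective _ hb
      haveI : Module.FinitePresentation (D.B i) (D.A (i + 1)) := by
        haveI : Module.Finite (D.B i) (D.A (i + 1)) :=
          Module.Finite.of_surjective (Algebra.linearMap (D.B i) (D.A (i + 1))) (D.surjBA' i hi1)
        haveI := D.fpBA' i hi1
        exact Module.FinitePresentation.of_finite_of_finitePresentation (D.B i) (D.A (i + 1))
      haveI : Module.FinitePresentation (D.B i) (D.M (i + 1)) := Module.FinitePresentation.trans _ _ (D.A (i + 1))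
      haveI : Module.FinitePresentation (D.B i) (LinearMap.ker g) := by
        rw [hker]
        exact Module.FinitePresentation.of_equiv (LinearEquiv.ofInjective (D.α i) hinj)
      haveI : Module.FinitePresentation (D.B i) (D.M i) := Module.finitePresentation_of_ker g hg
      exact ⟨Module.Free.of_equiv e, fp_of_finite_algebra (B := D.B i), fun _ => ⟨e.symm⟩, fun h => absurd h (by omega)⟩
  obtain ⟨m, hm⟩ : ∃ m, D.n = m + 1 := ⟨D.n - 1, by have := D.pos; omega⟩
  obtain ⟨hfr0, hfp0, -, -⟩ := hback m 0 (by omega)
  haveI := hfr0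
  haveI := hfp0
  refine ⟨?_, Module.Free.of_equiv (D.isoN.restrictScalars R).symm, ?_⟩
  · haveI : Module.Finite S (D.A 0) := Module.Finite.of_surjective (Algebra.linearMap S (D.A 0)) D.surjSA
    haveI := D.fpSA
    haveI : Module.FinitePresentation S (D.A 0) := Module.FinitePresentation.of_finite_of_finitePresentation S (D.A 0)
    haveI : Module.FinitePresentation S (D.M 0) := Module.FinitePresentation.trans _ _ (D.A 0)
    exact Module.FinitePresentation.of_equiv D.isoN.symm
  · obtain ⟨e⟩ := assemble R m D.M (fun i => Fin (D.r i) → D.B i)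
      (fun i hi => (hback (m - i) i (by omega)).2.2.1 (by omega)) ((hback 0 m (by omega)).2.2.2 rfl)
    exact ⟨(D.isoN.restrictScalars R).trans (e.trans (LinearEquiv.piCongrLeft' R
      (fun i : Fin (m + 1) => Fin (D.r i) → D.B i) (finCongr hm.symm)))⟩

end Groth.Agent.DevissLib
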