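import Groth.Prelude.Def_FlatCA
import Groth.Agent.DimFormulaLib.Fibre
import Groth.Agent.DimFormulaLib.Misc
import Mathlib

/-!
# Coordinates adapted to a point of a fibre
-/

set_option autoImplicit false
set_option linter.style.haveILetI false
set_option backward.isDefEq.respectTransparency false
set_option backward.isDefEq.respectTransparency.types false
set_option maxHeartbeats 1000000

universe u

open TensorProduct

noncomputable section

namespace Groth.Agent.DevissLib

open DimFormulaLib

variable {A C : Type u} [CommRing A] [CommRing C] [Algebra A C] [Algebra.FiniteType A C]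

/-- Through a point `q` of the fibre over `p` of local dimension `n` there are `n` coordinates, quasi-finite at
`q`, of which the first ones are independent at `q` and the others vanish there. -/
theorem exists_coord (q : Ideal C) [q.IsPrime] (p : Ideal A) [p.IsPrime] [q.LiesOver p]
    (Q : PrimeSpectrum (p.Fiber C)) (hQ : Q.asIdeal = FlatCA.fiberIdeal p q)
    (hQc : Q.asIdeal.comap (Algebra.TensorProduct.includeRight : C →ₐ[A] p.Fiber C).toRingHom = q)
    (n : ℕ) (hn : FlatMor.localDim (PrimeSpectrum (p.Fiber C)) Q = n) :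
    ∃ (a r : ℕ) (φ : MvPolynomial (Fin r ⊕ Fin a) A →ₐ[A] C), r + a = n ∧
      (letI := φ.toRingHom.toAlgebra; Algebra.QuasiFiniteAt (MvPolynomial (Fin r ⊕ Fin a) A) q) ∧
      (∀ j, φ (MvPolynomial.X (Sum.inr j)) ∈ q) ∧
      AlgebraicIndependent (A ⧸ p) (fun i => Ideal.Quotient.mk q (φ (MvPolynomial.X (Sum.inl i)))) := by
  classical
  let F := p.Fiber C
  let ι : C →ₐ[A] F := Algebra.TensorProduct.includeRight
  haveI : IsNoetherianRing F := Algebra.FiniteType.isNoetherianRing p.ResidueField F
  obtain ⟨r, hr⟩ := exists_nat_trdeg_quotient p.ResidueField F Q.asIdeal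
  have hr' : Algebra.trdeg (A ⧸ p) (C ⧸ q) = r := (trdeg_fibre p q Q.asIdeal hQc).symm.trans hr
  obtain ⟨a, hht, hd, -⟩ := localDim_eq_height_add p.ResidueField F Q r hr
  have hna : r + a = n := by
    rw [hd] at hn
    have : a + r = n := by exact_mod_cast hn
    omega
  obtain ⟨s, hMs, hcard⟩ := Ideal.exists_finset_card_eq_height_of_isNoetherianRing Q.asIdeal
  rw [hht] at hcard
  have hsa : s.card = a := by exact_mod_cast hcard
  subst hsa
  choose c hc b hb using fun x : F => Ideal.Fiber.exists_smul_eq_one_tmul p x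
  have hunit : ∀ r ∉ p, IsUnit (algebraMap A F r) := fun r hr => by
    rw [IsScalarTower.algebraMap_apply A p.ResidueField F]
    exact (Ne.isUnit (fun h => hr (Ideal.algebraMap_residueField_eq_zero.1 h))).map _
  have hscale : ∀ (x : F) (J : Ideal F), ι (b x) ∈ J ↔ x ∈ J := fun x J => by
    rw [show ι (b x) = algebraMap A F (c x) * x from (by rw [← Algebra.smul_def, hb]; rfl),
      Ideal.unit_mul_mem_iff_mem J (hunit _ (hc x))]
  let σ : Fin s.card → F := fun i => (s.equivFin.symm i : F)
  -- the independent coordinates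
  obtain ⟨T, hT⟩ := exists_isTranscendenceBasis (A ⧸ p) (C ⧸ q)
  have hTc : Cardinal.mk T = r := hT.cardinalMk_eq_trdeg.trans hr'
  obtain ⟨eT⟩ : Nonempty (Fin r ≃ T) := by
    rw [← Cardinal.lift_mk_eq']
    simp [hTc]
  choose w hw using fun i : Fin r => Ideal.Quotient.mk_surjective ((eT i : C ⧸ q))
  let φ : MvPolynomial (Fin r ⊕ Fin s.card) A →ₐ[A] C := MvPolynomial.aeval (Sum.elim w fun j => b (σ j))
  have hφl : ∀ i, φ (MvPolynomial.X (Sum.inl i)) = w i := fun i => by simp [φ]
  have hφr : ∀ j, φ (MvPolynomial.X (Sum.inr j)) = b (σ j) := fun j => by simp [φ]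
  have hsub : ∀ x ∈ s, x ∈ Q.asIdeal := fun x hx => hMs.1.2 (Ideal.subset_span hx)
  have hvan : ∀ j, φ (MvPolynomial.X (Sum.inr j)) ∈ q := fun j => by
    rw [hφr, ← hQc]
    exact (hscale _ _).2 (hsub _ (s.equivFin.symm j).2)
  have hind : AlgebraicIndependent (A ⧸ p) (fun i => Ideal.Quotient.mk q (φ (MvPolynomial.X (Sum.inl i)))) := by
    simp only [hφl, hw]
    exact hT.1.comp eT eT.injective
  refine ⟨s.card, r, φ, hna, ?_, hvan, hind⟩
  letI : Algebra (MvPolynomial (Fin r ⊕ Fin s.card) A) C := φ.toRingHom.toAlgebra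
  haveI : IsScalarTower A (MvPolynomial (Fin r ⊕ Fin s.card) A) C := .of_algebraMap_eq fun a => (φ.commutes a).symm
  haveI : Algebra.FiniteType (MvPolynomial (Fin r ⊕ Fin s.card) A) C :=
    Algebra.FiniteType.of_restrictScalars_finiteType A _ _
  let qC : PrimeSpectrum C := ⟨q, inferInstance⟩
  let P := PrimeSpectrum.comap (algebraMap (MvPolynomial (Fin r ⊕ Fin s.card) A) C) qC
  have hPp : ∀ x : PrimeSpectrum C, PrimeSpectrum.comap (algebraMap (MvPolynomial (Fin r ⊕ Fin s.card) A) C) x = P →
      x.asIdeal.comap (algebraMap A C) = p := by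
    intro x hx
    rw [q.over_def p]
    ext t
    have := SetLike.ext_iff.1 (congrArg PrimeSpectrum.asIdeal hx) (MvPolynomial.C t)
    simpa [P, qC, RingHom.algebraMap_toAlgebra, φ] using this
  -- nothing else in the fibre is comparable with `q`
  have hmin : ∀ x : PrimeSpectrum C, x ≤ qC →
      PrimeSpectrum.comap (algebraMap (MvPolynomial (Fin r ⊕ Fin s.card) A) C) x = P → x = qC := by
    intro x hle hx
    let e := PrimeSpectrum.preimageOrderIsoFiber A C ⟨p, inferInstance⟩
    let X := e ⟨x, PrimeSpectrum.ext (hPp x hx)⟩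
    let X' := e ⟨qC, PrimeSpectrum.ext (q.over_def p).symm⟩
    have hXc : ∀ z, (e z).asIdeal.comap ι.toRingHom = z.1.asIdeal := fun z =>
      congrArg (fun y => y.1.asIdeal) (e.symm_apply_apply z)
    have hX' : X' = Q := by
      refine e.symm.injective (Subtype.ext (PrimeSpectrum.ext ?_))
      rw [e.symm_apply_apply]
      exact hQc.symm
    have hXQ : X ≤ Q := hX' ▸ e.le_iff_le.2 hle
    have hspan : Ideal.span (s : Set F) ≤ X.asIdeal := Ideal.span_le.2 fun y hy => by
      refine (hscale _ _).1 ?_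
      show b y ∈ X.asIdeal.comap ι.toRingHom
      rw [hXc]
      have h1 := (SetLike.ext_iff.1 (congrArg PrimeSpectrum.asIdeal hx) (MvPolynomial.X (Sum.inr (s.equivFin ⟨y, hy⟩)))).2
        (hvan _)
      change φ (MvPolynomial.X (Sum.inr _)) ∈ x.asIdeal at h1
      rw [hφr] at h1
      simpa [σ] using h1
    have hXeq : X = X' := by
      rw [hX']
      exact le_antisymm hXQ (hMs.2 ⟨X.isPrime, hspan⟩ hXQ)
    exact congrArg Subtype.val (e.injective hXeq)
  have hmax : ∀ x : PrimeSpectrum C, qC ≤ x →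
      PrimeSpectrum.comap (algebraMap (MvPolynomial (Fin r ⊕ Fin s.card) A) C) x = P → x = qC := by
    intro x hle hx
    by_contra hne
    haveI : x.asIdeal.LiesOver p := ⟨(hPp x hx).symm⟩
    obtain ⟨t', ht'⟩ := exists_nat_trdeg_quotient_pair (A := A) x
    have hxc : (PrimeSpectrum.comap (algebraMap A C) x) = ⟨p, inferInstance⟩ := PrimeSpectrum.ext (hPp x hx)
    have hqc : (PrimeSpectrum.comap (algebraMap A C) qC) = ⟨p, inferInstance⟩ := PrimeSpectrum.ext (q.over_def p).symm
    have hlt := trdeg_lt_of_lt_in_fibre' (lt_of_le_of_ne hle (Ne.symm hne)) (hqc.trans hxc.symm) r t'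
      ((exists_fibre_component.trdeg_quotient_congr hqc).trans hr') ht'
    have hxi : AlgebraicIndependent (A ⧸ p) (fun i => Ideal.Quotient.mk x.asIdeal (w i)) := by
      rw [algebraicIndependent_iff]
      intro f hf
      refine algebraicIndependent_iff.1 hind f ?_
      obtain ⟨f, rfl⟩ := MvPolynomial.map_surjective (Ideal.Quotient.mk p) Ideal.Quotient.mk_surjective f
      have key : ∀ (J : Ideal C) [J.LiesOver p], MvPolynomial.aeval (fun i => Ideal.Quotient.mk J (w i))
          (MvPolynomial.map (Ideal.Quotient.mk p) f) = Ideal.Quotient.mk J (φ (MvPolynomial.rename Sum.inl f)) := by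
        intro J _
        rw [show MvPolynomial.map (Ideal.Quotient.mk p) f = MvPolynomial.map (algebraMap A (A ⧸ p)) f from rfl,
          MvPolynomial.aeval_map_algebraMap]
        simp only [φ, MvPolynomial.aeval_rename]
        exact (MvPolynomial.comp_aeval_apply (φ := Ideal.Quotient.mkₐ A J) w f).symm
      rw [key] at hf
      simp only [hφl]
      rw [key, Ideal.Quotient.eq_zero_iff_mem]
      exact (SetLike.ext_iff.1 (congrArg PrimeSpectrum.asIdeal hx) (MvPolynomial.rename Sum.inl f)).1
        (show φ (MvPolynomial.rename Sum.inl f) ∈ x.asIdeal from Ideal.Quotient.eq_zero_iff_mem.1 hf)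
    have hle' := hxi.lift_cardinalMk_le_trdeg
    rw [Cardinal.mk_fin, (exists_fibre_component.trdeg_quotient_congr hxc).symm.trans ht'] at hle'
    have : r ≤ t' := by simpa using hle'
    omega
  refine Algebra.QuasiFiniteAt.of_isOpen_singleton_fiber qC ?_
  let h := PrimeSpectrum.preimageHomeomorphFiber (MvPolynomial (Fin r ⊕ Fin s.card) A) C P
  let o := PrimeSpectrum.preimageOrderIsoFiber (MvPolynomial (Fin r ⊕ Fin s.card) A) C P
  rw [← h.isOpen_image, Set.image_singleton]
  haveI : IsNoetherianRing (P.asIdeal.Fiber C) := Algebra.FiniteType.isNoetherianRing P.asIdeal.ResidueField _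
  haveI : IsJacobsonRing (P.asIdeal.Fiber C) := isJacobsonRing_of_finiteType (A := P.asIdeal.ResidueField)
  refine ((PrimeSpectrum.isOpen_singleton_tfae_of_isNoetherian_of_isJacobsonRing (h ⟨qC, rfl⟩)).out 2 0 rfl rfl).1 ⟨?_, ?_⟩
  · rw [PrimeSpectrum.isClosed_singleton_iff_isMaximal, ← PrimeSpectrum.isMax_iff]
    intro y hy
    obtain ⟨⟨z, hz⟩, rfl⟩ := o.surjective y
    have := hmax z ((o.le_iff_le (x := ⟨qC, rfl⟩) (y := ⟨z, hz⟩)).1 hy) hz
    subst this
    exact le_rfl
  · intro y y' hyy hy
    rw [Set.mem_singleton_iff] at hy ⊢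
    subst hy
    obtain ⟨⟨z, hz⟩, rfl⟩ := o.surjective y'
    have := hmin z ((o.le_iff_le (x := ⟨z, hz⟩) (y := ⟨qC, rfl⟩)).1 ((PrimeSpectrum.le_iff_specializes _ _).2 hyy)) hz
    subst this
    rfl

end Groth.Agent.DevissLib
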